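import Groth.Agent.SGA4h.K3.TraitInd
import Groth.Agent.Sga4h.GoodOn202
import Mathlib.AlgebraicGeometry.PullbackCarrier
import Mathlib.AlgebraicGeometry.Morphisms.FiniteType

/-!
# Change of trait: all schemes locally of finite type
-/

set_option autoImplicit false
universe u
open CategoryTheory CategoryTheory.Limits AlgebraicGeometry Pretriangulated Triangulated
open DerivedCategory

attribute [local instance] HasDerivedCategory.standard

noncomputable section

namespace K3.TraitAll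

open Groth.Agent Groth.Agent.Etrest.DEtPush Groth.Agent.Sga4h.GSq Groth.Agent.Sga4h.RPair K3.PB K3.Kn
  K3.TraitMap K3.TraitDat K3.TraitProper K3.TraitInd
open Groth.Agent.Sga4h.NcTD Groth.Agent.Sga4h.NcDefs Groth.Agent.Sga4h.NcPsi Groth.Agent.Sga4h.NcTrans

variable {n : ℕ}

section open_

variable {T T' : TD.{u} n} {φ : TMap T T'} {P X : Scheme.{u}} {p : P ⟶ Spec (CommRingCat.of T.R)}
  {f : X ⟶ Spec (CommRingCat.of T.R)}

/-- Restriction of the comparison map to an open subscheme. -/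
theorem open_iff (D : Dat φ p) (D' : Dat φ f) (j : X ⟶ P) [IsOpenImmersion j] (w : j ≫ p = f) :
    ∃ (h' : D'.X' ⟶ D.X') (hL : D'.XL ⟶ D.XL) (hs : D'.Xs' ⟶ D.Xs'), IsPullback D'.g h' j D.g ∧
      h' ≫ D.f' = D'.f' ∧ IsOpenImmersion hL ∧ hs ≫ D.i = D'.i ≫ h' ∧
      ∀ K : DCoh.DEt D.XL, (∃ a : ℤ, K.IsGE a) →
        (IsIso ((pullD hs).map (D.β K)) ↔ IsIso (D'.β ((pullD hL).obj K))) := by
  have w1 : (D'.g ≫ j) ≫ p = D'.f' ≫ SM φ.ρ := by rw [Category.assoc, w, D'.hX.w]
  let h' := D.hX.lift (D'.g ≫ j) D'.f' w1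
  have hg : h' ≫ D.g = D'.g ≫ j := D.hX.lift_fst _ _ _
  have hf : h' ≫ D.f' = D'.f' := D.hX.lift_snd _ _ _
  have hsq : IsPullback D'.g h' j D.g := by
    refine IsPullback.of_bot ?_ hg.symm D.hX
    rw [hf, w]
    exact D'.hX
  have ho : IsOpenImmersion h' :=
    MorphismProperty.of_isPullback (P := @IsOpenImmersion) hsq inferInstance
  have e : SM (TDHom.id T).ρ = 𝟙 _ := Spec.map_id _
  have e' : SM (TDHom.id T').ρ = 𝟙 _ := Spec.map_id _
  obtain ⟨hL, hs, hLsq, -, hhs, hiff⟩ := chart_iff (TDHom.id T) (TDHom.id T') (φ := φ) (φ₁ := φ)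
    (by rfl) D D' j (Sga4h.NcLimEt2.LimEt_of_etale j)
    (by rw [w, e, Category.comp_id]) h' (Sga4h.NcLimEt2.LimEt_of_etale h') hg
    (by rw [hf, e', Category.comp_id])
  have hLo : IsOpenImmersion hL :=
    MorphismProperty.of_isPullback (P := @IsOpenImmersion) hLsq.flip inferInstance
  exact ⟨h', hL, hs, hsq, hf, hLo, hhs, hiff⟩

theorem ct_of_open (hp : CTall φ p) (j : X ⟶ P) [IsOpenImmersion j] (w : j ≫ p = f) :
    CTall φ f := by
  intro D' K hK
  obtain ⟨D⟩ := exists_dat φ p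
  obtain ⟨h', hL, hs, -, -, hLo, hhs, hiff⟩ := open_iff D D' j w
  have hK1 : KN n ((pushD hL).obj K) := hK.pushD hL
  have h1 := hp D _ hK1
  have h2 : IsIso ((pullD hs).map (D.β ((pushD hL).obj K))) := inferInstance
  rw [hiff _ hK1.ge] at h2
  rw [← Dat.pb_iff] at h2 ⊢
  have h3 := Groth.Agent.Sga4h.GoodOn202.isIso_counit hL K
  exact h2.of_iso (asIso ((dPullPush hL).counit.app K))

end open_

variable (Good : ∀ {T T' : TD.{u} n}, TMap T T' → Prop)
  (hG1 : ∀ {T T' : TD.{u} n} (φ : TMap T T'), Good φ → FieldCT φ)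
  (hG2 : ∀ {T T' : TD.{u} n} (φ : TMap T T') (H : Hull T) (H' : Hull T'), Good φ →
    ∃ M : HullMap φ H H', Good M.φ')

include hG1 hG2

/-- Affine schemes with `N` generators. -/
theorem ct_affine (N : ℕ) : ∀ {T T' : TD.{u} n} (φ : TMap T T'), Good φ → ∀ (A : Type u) [CommRing A]
    [Algebra T.R A] (s : Fin N → A), Algebra.adjoin T.R (Set.range s) = ⊤ →
      CTall φ (SM (algebraMap T.R A)) := by
  induction N with
  | zero =>
    intro T T' φ hφ A _ _ s hs
    obtain ⟨P, p, _, j, _, hj, B, _, _, t, ht, u, _, hu, hcov⟩ := Sga4h.NcGeom.W6 T.R 0 A s hs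
    exact ct_of_open (step Good hG1 hG2 0 (fun M hM => absurd hM (Nat.succ_ne_zero M)) φ hφ p _ B t ht u hu hcov)
      j hj
  | succ N ih =>
    intro T T' φ hφ A _ _ s hs
    obtain ⟨P, p, _, j, _, hj, B, _, _, t, ht, u, _, hu, hcov⟩ := Sga4h.NcGeom.W6 T.R (N + 1) A s hs
    refine ct_of_open (step Good hG1 hG2 (N + 1) (fun M hM => by
      obtain rfl : M = N := Nat.succ_injective hM
      exact ih) φ hφ p _ B t ht u hu hcov) j hj

/-- **Theorem.** Nearby cycles commute with good changes of trait. -/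
theorem ct_all {T T' : TD.{u} n} (φ : TMap T T') (hφ : Good φ) {X : Scheme.{u}}
    (f : X ⟶ Spec (CommRingCat.of T.R)) [LocallyOfFiniteType f] : CTall φ f := by
  intro D K hK
  let A : X.affineOpens → Type u := fun U => Γ(X, U.1)
  let u : ∀ U : X.affineOpens, Spec (CommRingCat.of (A U)) ⟶ X := fun U => U.2.fromSpec
  let ψ : ∀ U : X.affineOpens, T.R →+* A U := fun U => (Spec.preimage (u U ≫ f)).hom
  have hψ : ∀ U, SM (ψ U) = u U ≫ f := fun U => Spec.map_preimage _
  have hCT : ∀ U : X.affineOpens, CTall φ (SM (ψ U)) := by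
    intro U
    let _ : Algebra T.R (A U) := (ψ U).toAlgebra
    have hft : Algebra.FiniteType T.R (A U) := by
      have h1 : LocallyOfFiniteType (Spec.map (CommRingCat.ofHom (algebraMap T.R (A U)))) := by
        have : Spec.map (CommRingCat.ofHom (algebraMap T.R (A U))) = u U ≫ f := hψ U
        rw [this]
        infer_instance
      rw [HasRingHomProperty.Spec_iff (P := @LocallyOfFiniteType)] at h1
      exact h1
    obtain ⟨s, hs⟩ := hft.out
    refine ct_affine Good hG1 hG2 s.card φ hφ (A U) (fun i => (s.equivFin.symm i : A U)) ?_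
    rw [← hs]
    congr 1
    ext x
    constructor
    · rintro ⟨i, rfl⟩
      exact (s.equivFin.symm i).2
    · intro hx
      exact ⟨s.equivFin ⟨x, hx⟩, by simp⟩
  let D' : ∀ U, Dat φ (SM (ψ U)) := fun U => (exists_dat φ (SM (ψ U))).some
  choose h' hL hs h1 h2 h3 h4 h5 using fun U => open_iff D (D' U) (u U) (hψ U).symm
  have hi := isClosedImmersion_i D
  refine isIso_of_pullD hs (fun y => ?_) (D.β K) fun U => ?_
  · obtain ⟨U, hU, hxU, -⟩ := exists_isAffineOpen_mem_and_subset (x := D.g (D.i y)) (U := ⊤) trivial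
    refine ⟨⟨U, hU⟩, ?_⟩
    have hr : D.g (D.i y) ∈ Set.range (u ⟨U, hU⟩) := by
      change D.g (D.i y) ∈ Set.range hU.fromSpec
      rw [hU.range_fromSpec]
      exact hxU
    obtain ⟨z, hz⟩ := hr
    obtain ⟨a, ha1, ha2⟩ := Scheme.Pullback.exists_preimage_pullback (f := D.g) (g := u ⟨U, hU⟩)
      (D.i y) z hz.symm
    have hy1 : h' ⟨U, hU⟩ ((h1 ⟨U, hU⟩).flip.isoPullback.inv a) = D.i y := by
      rw [← Scheme.Hom.comp_apply, IsPullback.isoPullback_inv_fst]
      exact ha1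
    refine mem_range_hs D (D' ⟨U, hU⟩) (h' ⟨U, hU⟩) (hs ⟨U, hU⟩) (h4 ⟨U, hU⟩) y _ hy1 ?_
    rw [← h2 ⟨U, hU⟩, Scheme.Hom.comp_apply, hy1, ← Scheme.Hom.comp_apply, D.hs.w,
      Scheme.Hom.comp_apply]
    have h6 : D.fs y = IsLocalRing.closedPoint (IsLocalRing.ResidueField T'.R) := Subsingleton.elim _ _
    rw [h6]
    exact IsLocalRing.comap_closedPoint (IsLocalRing.residue T'.R)
  · rw [h5 U K hK.ge]
    exact hCT U (D' U) _ (hK.pullD (hL U))

end K3.TraitAll
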