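import Groth.Agent.Sga4h.NcPunctual
import Groth.Agent.Sga4h.GSq

/-!
# Complexes with punctual cohomology and vanishing direct image

`isIso_of_charts`: on a scheme of finite type over a separably closed field, a morphism of bounded below
complexes of étale sheaves which becomes an isomorphism on charts leaving out only closed points, and
after direct image to the point, is an isomorphism.
-/

set_option autoImplicit false
universe u
open CategoryTheory CategoryTheory.Limits AlgebraicGeometry Opposite Pretriangulated Triangulated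
open DerivedCategory

attribute [local instance] HasDerivedCategory.standard

noncomputable section

namespace K3.PunctZero

open Groth.Agent.Sga4h.NcPunctual Groth.Agent.CurvesA.Punctual Groth.Agent.CurvesA.SkyPoint
  Groth.Agent.CurvesA.SkyAcyclic Groth.Agent.EtpbcA.Artin
open Groth.Agent.Etrest.DEtPush Groth.Agent.Sga4h.GSq Groth.Agent.Sga4h.RPair

/-- A bounded below object `C ≥ n` has a map from `H^n(C)[-n]` which is an isomorphism on `H^n`. -/
theorem exists_single_hom {A : Type*} [Category* A] [Abelian A] [HasDerivedCategory A]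
    (C : DerivedCategory A) (n : ℤ) [C.IsGE n] :
    ∃ f : (singleFunctor A n).obj ((homologyFunctor A n).obj C) ⟶ C,
      IsIso ((homologyFunctor A n).map f) := by
  have h1 : ((TStructure.t.truncLT (n + 1)).obj C).IsLE n := by
    have : TStructure.t.IsLE ((TStructure.t.truncLT (n + 1)).obj C) (n + 1 - 1) := inferInstance
    rw [add_sub_cancel_right] at this
    exact this
  have h3 := Groth.Agent.CohtopB.DTrunc.isIso_homology_map_truncLTι C (n + 1) n (by lia)
  have h2 : ((TStructure.t.truncLT (n + 1)).obj C).IsGE n := by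
    rw [isGE_iff]
    intro i hi
    have := Groth.Agent.CohtopB.DTrunc.isIso_homology_map_truncLTι C (n + 1) i (by lia)
    exact (isZero_of_isGE C n i hi).of_iso
      (asIso ((homologyFunctor A i).map ((TStructure.t.truncLTι (n + 1)).app C)))
  obtain ⟨e⟩ := Groth.Agent.CohtopB.DTrunc.exists_iso_single ((TStructure.t.truncLT (n + 1)).obj C) n
  let e' := (singleFunctor A n).mapIso
    (asIso ((homologyFunctor A n).map ((TStructure.t.truncLTι (n + 1)).app C))).symm ≪≫ e.symm
  refine ⟨e'.hom ≫ (TStructure.t.truncLTι (n + 1)).app C, ?_⟩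
  rw [Functor.map_comp]
  infer_instance

variable {Y S : Scheme.{u}}

/-- The direct image of the lowest cohomology sheaf of a complex with vanishing direct image. -/
theorem isZero_push_of_isZero_pushD (a : Y ⟶ S) (C : DCoh.DEt Y) (n : ℤ) [C.IsGE n]
    (hp : IsZero ((pushD a).obj C)) : IsZero ((EtCoh.push a).obj (DCoh.HDEt C n)) := by
  obtain ⟨f, hf⟩ := exists_single_hom C n
  let M : EtCoh.Ab Y := (homologyFunctor (EtCoh.Ab Y) n).obj C
  have key : ∀ (N : EtCoh.Ab S) (x : (EtCoh.pull a).obj N ⟶ M), x = 0 := by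
    intro N x
    let e : (pullD a).obj ((singleFunctor _ n).obj N) ≅ (singleFunctor _ n).obj ((EtCoh.pull a).obj N) :=
      ((EtCoh.pull a).mapDerivedCategorySingleFunctor n).app N
    have h1 : e.hom ≫ (singleFunctor _ n).map x ≫ f = 0 := by
      apply ((dPullPush a).homEquiv _ _).injective
      exact hp.eq_of_tgt _ _
    have h2 : (singleFunctor _ n).map x ≫ f = 0 := by
      rw [← cancel_epi e.hom, h1, comp_zero]
    have h3 : (homologyFunctor (EtCoh.Ab Y) n).map ((singleFunctor (EtCoh.Ab Y) n).map x) = 0 := by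
      rw [← cancel_mono ((homologyFunctor _ n).map f), ← Functor.map_comp, h2, Functor.map_zero,
        zero_comp]
    have h4 := (singleFunctorCompHomologyFunctorIso (EtCoh.Ab Y) n).hom.naturality x
    have h5 : (singleFunctorCompHomologyFunctorIso (EtCoh.Ab Y) n).hom.app _ ≫ x = 0 := by
      have h6 : (singleFunctorCompHomologyFunctorIso (EtCoh.Ab Y) n).hom.app _ ≫ x =
        (homologyFunctor (EtCoh.Ab Y) n).map ((singleFunctor (EtCoh.Ab Y) n).map x) ≫
          (singleFunctorCompHomologyFunctorIso (EtCoh.Ab Y) n).hom.app _ := h4.symm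
      rw [h6, h3, zero_comp]
    exact (cancel_epi ((singleFunctorCompHomologyFunctorIso (EtCoh.Ab Y) n).hom.app _)).1
      (h5.trans comp_zero.symm)
  change IsZero ((EtCoh.push a).obj M)
  rw [IsZero.iff_id_eq_zero]
  apply ((EtCoh.pullPushAdj a).homEquiv _ _).symm.injective
  exact (key _ _).trans (key _ _).symm

theorem isZero_pushD_of_isIso (a : Y ⟶ S) {A B C : DCoh.DEt Y} {b : A ⟶ B} {f : B ⟶ C}
    {h : C ⟶ A⟦(1 : ℤ)⟧} (hT : Triangle.mk b f h ∈ distTriang (DCoh.DEt Y))
    (hp : IsIso ((pushD a).map b)) : IsZero ((pushD a).obj C) := by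
  obtain ⟨M₃, f', g', h', hT', ε, he₁, he₂, k₃⟩ := exists_triPair hT
    (isUniv_pushD a A) (isUniv_pushD a B)
  have h1 : f' = (pushD a).map b := by
    apply (isUniv_pushD a B).hom_ext
    have h2 := ε.comm₁
    rw [he₁, he₂] at h2
    exact h2.trans ((dPullPush a).counit.naturality b).symm
  subst h1
  have h3 : IsZero M₃ := (Triangle.isZero₃_iff_isIso₁ _ hT').2 hp
  exact h3.of_iso (k₃.iso (isUniv_pushD a C)).symm

variable {k : Type u} [Field k] [IsSepClosed k] (a : Y ⟶ Spec (CommRingCat.of k))
    [LocallyOfFiniteType a] [QuasiCompact a]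

/-- A sheaf supported at closed points without global sections is zero. -/
theorem isZero_of_punctual (M : EtCoh.Ab Y) (hM : ∀ x ∈ EtPBC.supp M, IsClosed ({x} : Set Y))
    (h : IsZero ((EtCoh.push a).obj M)) : IsZero M := by
  rw [Groth.Agent.EtpbcA.Artin.isZero_iff]
  have h1 : IsZero ((EtCore.gsec Y).obj M) :=
    ((EtCore.gsec _).map_isZero h).of_iso ((EtCore.pushGsecIso a).app M).symm
  have h2 : Subsingleton (EtCoh.sect M (EtCoh.top Y)) := AddCommGrpCat.subsingleton_of_isZero h1
  by_contra hne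
  obtain ⟨x, hx⟩ := Set.nonempty_iff_ne_empty.2 hne
  obtain ⟨Ω, _, _, ξ, hξ⟩ := Groth.Agent.Etcore.Stalks.exists_geom x
  have hcl : IsClosed ({ξ default} : Set Y) := by rw [hξ]; exact hM x hx
  have hA : ¬ IsZero ((EtCoh.stalk ξ).obj M) := (mem_supp_iff M x ξ ((range_eq_iff ξ x).2 hξ)).1 hx
  apply hA
  have hsub : Subsingleton ((EtCoh.stalk ξ).obj M : Type (u + 1)) := by
    have hs : Function.Surjective (fun s : EtCoh.sect M (EtCoh.top Y) =>
        comp ξ ((EtCoh.stalk ξ).obj M) (topPt ξ) ((uSky ξ M).hom.app (op (EtCoh.top Y)) s)) := by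
      intro p
      obtain ⟨s, hs⟩ := surjective_unit_top a ξ hcl M hM
        (mkSec ξ ((EtCoh.stalk ξ).obj M) (EtCoh.top Y) fun _ => p)
      exact ⟨s, by simp only [hs]; exact comp_mkSec ξ _ _ _ _⟩
    exact hs.subsingleton
  exact AddCommGrpCat.isZero_of_subsingleton _

/-- A bounded below complex vanishing on charts leaving out only closed points, with vanishing direct
image, is zero. -/
theorem isZero_of_charts (C : DCoh.DEt Y) (n₀ : ℤ) [C.IsGE n₀] {ι : Type*} (Z : ι → Scheme.{u})
    (g : ∀ i, Z i ⟶ Y) (hZ : ∀ y : Y, (∀ i, y ∉ Set.range (g i)) → IsClosed ({y} : Set Y))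
    (hg : ∀ i, IsZero ((pullD (g i)).obj C)) (hp : IsZero ((pushD a).obj C)) : IsZero C := by
  have key : ∀ m : ℕ, C.IsGE (n₀ + m) := by
    intro m
    induction m with
    | zero => simpa using (inferInstance : C.IsGE n₀)
    | succ m ih =>
      rw [isGE_iff]
      intro i hi
      by_cases hi' : i < n₀ + m
      · exact isZero_of_isGE C (n₀ + m) i hi'
      · obtain rfl : i = n₀ + m := by push_cast at hi; lia
        have h1 := isZero_push_of_isZero_pushD a C (n₀ + m) hp
        refine isZero_of_punctual a (DCoh.HDEt C (n₀ + m)) ?_ h1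
        intro x hx
        refine hZ x fun j hj => ?_
        obtain ⟨z, rfl⟩ := hj
        have h2 : IsZero ((EtCoh.pull (g j)).obj (DCoh.HDEt C (n₀ + m))) := by
          refine IsZero.of_iso ?_
            (Groth.Agent.Dcoh.MapDer.homologyMapDerApp (EtCoh.pull (g j)) (n₀ + m) C).symm
          exact (homologyFunctor _ _).map_isZero (hg j)
        rw [Groth.Agent.EtpbcA.Artin.isZero_iff, supp_pull] at h2
        have : z ∈ (g j) ⁻¹' EtPBC.supp (DCoh.HDEt C (n₀ + m)) := hx
        rw [h2] at this
        exact this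
  have hz : ∀ i : ℤ, IsZero ((homologyFunctor (EtCoh.Ab Y) i).obj C) := fun i => by
    have := key (i - n₀ + 1).toNat
    exact isZero_of_isGE C (n₀ + (i - n₀ + 1).toNat) i (by lia)
  exact nondeg (EtCoh.Ab Y) C fun n => (isGE_iff C n).2 fun i _ => hz i

/-- A morphism of bounded below complexes which is an isomorphism on charts leaving out only closed points
and after direct image to the point is an isomorphism. -/
theorem isIso_of_charts {A B : DCoh.DEt Y} (b : A ⟶ B) (n₀ : ℤ) [A.IsGE n₀] [B.IsGE n₀] {ι : Type*}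
    (Z : ι → Scheme.{u}) (g : ∀ i, Z i ⟶ Y)
    (hZ : ∀ y : Y, (∀ i, y ∉ Set.range (g i)) → IsClosed ({y} : Set Y))
    (hg : ∀ i, IsIso ((pullD (g i)).map b)) (hp : IsIso ((pushD a).map b)) : IsIso b := by
  obtain ⟨C, f, h, hT⟩ := distinguished_cocone_triangle b
  refine (Triangle.isZero₃_iff_isIso₁ _ hT).1 ?_
  have h2 : TStructure.t.IsGE (B) (n₀ - 1) := TStructure.t.isGE_of_ge B (n₀ - 1) n₀ (by lia)
  have h3 : TStructure.t.IsGE (A⟦(1 : ℤ)⟧) (n₀ - 1) := TStructure.t.isGE_shift A n₀ 1 (n₀ - 1)
  have hC : TStructure.t.IsGE C (n₀ - 1) :=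
    TStructure.t.isGE₂ _ (rot_of_distTriang _ hT) (n₀ - 1) h2 h3
  have hC' : C.IsGE (n₀ - 1) := hC
  refine isZero_of_charts a C (n₀ - 1) Z g hZ (fun i => ?_) ?_
  · exact (Triangle.isZero₃_iff_isIso₁ _ ((pullD (g i)).map_distinguished _ hT)).2 (hg i)
  · exact isZero_pushD_of_isIso a hT hp

end K3.PunctZero
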