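import Groth.Agent.SGA4h.K3.TraitDat
import Groth.Agent.SGA4h.K3.PunctZero
import Groth.Agent.Sga4h.RelCurveA

/-!
# Change of trait: the proper step

`proper_step`: `P` proper over the trait; if the comparison of nearby cycles is an isomorphism on charts leaving
out only closed points of the special fibre, it is an isomorphism.
-/

set_option autoImplicit false
universe u
open CategoryTheory CategoryTheory.Limits AlgebraicGeometry Pretriangulated Triangulated
open DerivedCategory

attribute [local instance] HasDerivedCategory.standard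

noncomputable section

namespace K3.TraitProper

open Groth.Agent Groth.Agent.Etrest.DEtPush Groth.Agent.Sga4h.GSq Groth.Agent.Sga4h.RPair K3.PB K3.Kn
  K3.TraitMap K3.TraitDat K3.PunctZero
open Groth.Agent.Sga4h.NcTD Groth.Agent.Sga4h.NcDefs Groth.Agent.Sga4h.NcPsi Groth.Agent.Sga4h.NcTrans
open Groth.Agent.Sga4h.RelCurve

variable {n : ℕ}

/-- The comparison over the traits themselves. -/
def FieldCT {T T' : TD.{u} n} (φ : TMap T T') : Prop :=
  ∀ N : DCoh.DEt (Spec (CommRingCat.of T.L)), KN n N →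
    PB (TraitDat.comm_L φ) (SM (IsLocalRing.residue T'.R)) N

theorem pos_of_td (T : TD.{u} n) : 0 < n := by
  rcases Nat.eq_zero_or_pos n with h | h
  · subst h
    have hn := T.hn
    rw [Nat.cast_zero] at hn
    exact absurd hn not_isUnit_zero
  · exact h

/-- Proper base change for complexes killed by `n`. -/
theorem bc_of_proper' {X Y X' Y' : Scheme.{u}} {f : X ⟶ Y} {g : Y' ⟶ Y} {f' : X' ⟶ Y'} {g' : X' ⟶ X}
    (h : IsPullback g' f' f g) [IsProper f] (hn : 0 < n) {K : DCoh.DEt X} (hK : KN n K) : BC h.w K :=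
  bc_of_proper h hK.ge (fun m => hK.isTorsion hn m)

variable {T T' : TD.{u} n} {φ : TMap T T'} {P : Scheme.{u}} {p : P ⟶ Spec (CommRingCat.of T.R)}
  [IsProper p] (D : Dat φ p)

/-- The comparison is an isomorphism after direct image to the point. -/
theorem isIso_pushD_β (hF : FieldCT φ) (K : DCoh.DEt D.XL) (hK : KN n K) :
    IsIso ((pushD D.fs).map (D.β K)) := by
  have hn : 0 < n := pos_of_td T
  have hp' : IsProper D.f' := MorphismProperty.of_isPullback (P := @IsProper) D.hX inferInstance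
  have hpL : IsProper D.fL := MorphismProperty.of_isPullback (P := @IsProper) D.hL inferInstance
  -- outer square, through the lower square of proper morphisms
  have w3 : D.gL ≫ (D.j ≫ p) = (D.j' ≫ D.f') ≫ SM φ.ρ := by
    rw [← Category.assoc, D.w, Category.assoc, D.hX.w, Category.assoc]
  have w4 : D.gL ≫ (D.fL ≫ SM (algebraMap T.R T.L)) =
      (D.fL' ≫ SM (algebraMap T'.R T'.L)) ≫ SM φ.ρ := by
    rw [← Category.assoc, D.wL, Category.assoc, TraitDat.comm_L, Category.assoc]
  have k1 := vcomp_iff_left D.hX.w D.w w3 (SM (IsLocalRing.residue T'.R)) (K := K)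
    (bc_of_proper' D.hX hn (hK.pushD D.j))
  have k2 := vcomp_iff_right (TraitDat.comm_L φ) D.wL w4 (SM (IsLocalRing.residue T'.R)) (K := K)
    (bc_of_proper' D.isPullback_gL hn hK)
  have k3 : PB w3 (SM (IsLocalRing.residue T'.R)) K ↔ PB w4 (SM (IsLocalRing.residue T'.R)) K :=
    pb_congr D.hL.w rfl D.hL'.w rfl rfl _ _ K
  have k4 : IsIso ((pullD (SM (IsLocalRing.residue T'.R))).map ((pushD D.f').map ((bcEt D.w).app K))) :=
    k1.1 (k3.2 (k2.2 (hF _ (hK.pushD D.fL))))
  -- proper base change to the special fibre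
  have h1 : IsIso ((bcEt D.hs.w).app ((pullD D.g).obj ((pushD D.j).obj K))) :=
    (BC_iff _ _).1 (bc_of_proper' D.hs hn ((hK.pushD D.j).pullD D.g))
  have h2 : IsIso ((bcEt D.hs.w).app ((pushD D.j').obj ((pullD D.gL).obj K))) :=
    (BC_iff _ _).1 (bc_of_proper' D.hs hn ((hK.pullD D.gL).pushD D.j'))
  have h3 := (bcEt D.hs.w).naturality ((bcEt D.w).app K)
  have h4 : IsIso ((bcEt D.hs.w).app ((pullD D.g).obj ((pushD D.j).obj K)) ≫
      (pushD D.fs).map (D.β K)) := by
    have h5 : (bcEt D.hs.w).app ((pullD D.g).obj ((pushD D.j).obj K)) ≫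
      (pushD D.fs).map (D.β K) =
      (pullD (SM (IsLocalRing.residue T'.R))).map ((pushD D.f').map ((bcEt D.w).app K)) ≫
        (bcEt D.hs.w).app ((pushD D.j').obj ((pullD D.gL).obj K)) := h3.symm
    rw [h5]
    exact IsIso.comp_isIso' k4 h2
  exact IsIso.of_isIso_comp_left ((bcEt D.hs.w).app ((pullD D.g).obj ((pushD D.j).obj K))) _

/-- The proper step. -/
theorem proper_step (hF : FieldCT φ) (K : DCoh.DEt D.XL) (hK : KN n K) {ι : Type*}
    (Z : ι → Scheme.{u}) (g : ∀ a, Z a ⟶ D.Xs')
    (hZ : ∀ y : D.Xs', (∀ a, y ∉ Set.range (g a)) → IsClosed ({y} : Set D.Xs'))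
    (hg : ∀ a, IsIso ((pullD (g a)).map (D.β K))) : IsIso (D.β K) := by
  have hp' : IsProper D.f' := MorphismProperty.of_isPullback (P := @IsProper) D.hX inferInstance
  have hfs : IsProper D.fs := MorphismProperty.of_isPullback (P := @IsProper) D.hs inferInstance
  have hsc : IsSepClosed (IsLocalRing.ResidueField T'.R) := by
    obtain ⟨_, h⟩ := T'.hR
    exact h
  obtain ⟨a, ha⟩ := (((hK.pushD D.j).pullD D.g).pullD D.i).ge
  obtain ⟨b, hb⟩ := (((hK.pullD D.gL).pushD D.j').pullD D.i).ge
  have ha' : ((pullD D.i).obj ((pullD D.g).obj ((pushD D.j).obj K))).IsGE (min a b) :=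
    TStructure.t.isGE_of_ge _ (min a b) a (min_le_left _ _)
  have hb' : ((pullD D.i).obj ((pushD D.j').obj ((pullD D.gL).obj K))).IsGE (min a b) :=
    TStructure.t.isGE_of_ge _ (min a b) b (min_le_right _ _)
  exact isIso_of_charts D.fs (D.β K) (min a b) Z g hZ hg (isIso_pushD_β D hF K hK)

end K3.TraitProper
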