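import Groth.Agent.SGA4h.K3.BridgeConv
import Groth.Agent.SGA4h.K3.TraitProper
import Groth.Agent.SGA4h.K815.H0Field
import Groth.Agent.SGA4h.K557.WeakEt
import Groth.Agent.Sga4h.SLoc
import Groth.Agent.Sga4h.NcTransfer
import Groth.Agent.Sga4h.NcRoot
import Groth.Agent.S0171
import Groth.Agent.EtpbcA.PullFLC

/-!
# Change of trait: the comparison over the traits themselves
-/

set_option autoImplicit false
universe u
open CategoryTheory CategoryTheory.Limits AlgebraicGeometry Pretriangulated Triangulated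
open DerivedCategory

attribute [local instance] HasDerivedCategory.standard

noncomputable section

namespace K3.TraitField

open Groth.Agent Groth.Agent.Etrest.DEtPush Groth.Agent.Sga4h.GSq Groth.Agent.Sga4h.RPair K3.PB K3.Kn
  K3.TraitMap K3.TraitDat K3.TraitProper K3.BridgeConv
open Groth.Agent.Sga4h.NcTD Groth.Agent.Sga4h.NcDefs Groth.Agent.Sga4h.NcPsi Groth.Agent.Sga4h.NcTrans
open K557.WeakEt K557.BcQ Groth.Agent.Etcore.HpullCalc Groth.Agent.Etcore.EtInst
open scoped Groth.Agent.Sga4B.EtAbInst Groth.Agent.Etcore.EtInst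

variable {n : ℕ}

/-- Sheaves killed by `n` on `Spec L` have no cohomology. -/
theorem subsingleton_H (T : TD.{u} n) (M : EtCoh.Ab (Spec (CommRingCat.of T.L))) (hM : EtCoh.KilledBy n M)
    (q : ℕ) (hq : 0 < q) : Subsingleton (HH _ M q) := by
  let Ω := SeparableClosure T.L
  let e := SM (algebraMap T.L Ω)
  refine ⟨fun x y => ?_⟩
  have hΩ : Subsingleton (HH _ ((EtCoh.pull e).obj M) q) :=
    Groth.Agent.S0171.result (K := Ω) _ (𝟙 _) ((EtCoh.pull e).obj M)
      (fun x _ => isClosed_discrete _) q hq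
  have h1 : IsPullback e (𝟙 _) (𝟙 _) (SM (algebraMap T.L Ω)) := IsPullback.of_vert_isIso ⟨by simp; rfl⟩
  rw [← sub_eq_zero]
  exact Sga4h.NcTransfer.W2' T.L Ω n (fun M _ _ _ _ => Sga4h.NcRoot.A1 T.R T.hR T.K T.L n T.hn T.hrc M)
    (𝟙 _) e (𝟙 _) h1 M hM q (x - y) (Subsingleton.elim _ _)

theorem bijective_hp (T T' : TD.{u} n) (φ : TMap T T') (h : SepIn φ)
    (M : EtCoh.Ab (Spec (CommRingCat.of T.L))) (hM : EtCoh.KilledBy n M) (q : ℕ) :
    Function.Bijective (hp (SM φ.lam) M q) := by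
  rcases Nat.eq_zero_or_pos q with rfl | hq
  · rw [bijective_hp_zero_iff]
    let _ := φ.lam.toAlgebra
    have h1 := K815.H0Field.bijective_unit_top (L := T.L) (L' := T'.L) h M
    rw [unitSec_eq]
    have h2 : Function.Bijective (((EtCoh.pull (SM φ.lam)).obj M).obj.map
      (EtCore.bcTopIso (SM φ.lam)).inv.op) := (ConcreteCategory.bijective_of_isIso _)
    exact h2.comp h1
  · have h1 := subsingleton_H T M hM q hq
    have h2 := subsingleton_H T' ((EtCoh.pull (SM φ.lam)).obj M)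
      (Sga4B.ShriekTools.killedBy_pull _ n _ hM) q hq
    exact ⟨fun a b _ => Subsingleton.elim _ _, fun b => ⟨0, Subsingleton.elim _ _⟩⟩

theorem fieldCT {T T' : TD.{u} n} (φ : TMap T T') (h : SepIn φ) : FieldCT φ := by
  intro N hN
  obtain ⟨a, ha⟩ := hN.ge
  refine pb_of_homology N a (fun m => ?_)
  have hM := hN.killedBy m
  refine pb_single _ (pb_single_zero _ _ _ fun q => ?_) m
  have i0 := φ.h0
  obtain ⟨i1, i2⟩ := T.hR
  obtain ⟨i3, i4⟩ := T'.hR
  have e := isIso_pull_bq_iff (TraitDat.comm_L φ) (A := T.R) (C := T'.R)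
    (Sga4h.SLoc.isStrictLoc_id T.R) (Sga4h.SLoc.isStrictLoc_id T'.R) φ.ρ (by simp)
    (a := 𝟙 _) (r := SM (algebraMap T.R T.L)) (IsPullback.of_horiz_isIso ⟨by simp⟩)
    (a' := 𝟙 _) (r' := SM (algebraMap T'.R T'.L)) (IsPullback.of_horiz_isIso ⟨by simp⟩)
    (k := SM φ.lam) (by simp) (TraitDat.comm_L φ) q (DCoh.HDEt N m)
  have h1 := e.2 (bijective_hp T T' φ h _ (Sga4B.ShriekTools.killedBy_pull _ n _ hM) q)
  have h2 : IsIso ((EtCoh.pull (SM (IsLocalRing.residue T'.R))).map ((EtCoh.pull (𝟙 _)).map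
    (bq (TraitDat.comm_L φ) q (DCoh.HDEt N m)))) := h1
  have hb : EtCoh.BCCont (𝟙 (Spec (CommRingCat.of T'.R))) := EtCoh.bcCont _
  have h3 : IsIso ((EtCoh.pull (SM (IsLocalRing.residue T'.R))).map ((𝟭 _ : _ ⥤ _).map
    (bq (TraitDat.comm_L φ) q (DCoh.HDEt N m)))) :=
    (NatIso.isIso_map_iff (Functor.isoWhiskerRight (EtpbcA.PullFLC.pullId _) (EtCoh.pull (SM (IsLocalRing.residue T'.R)))) _).1 h2
  exact h3

end K3.TraitField
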