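import Groth.Agent.SGA4h.K3.PTri
import Groth.Agent.Sga4h.GSq

/-!
# The derived base change map after an inverse image

For a commutative square `w : g' ≫ f = f' ≫ g` of schemes, `i : Z ⟶ Y'` and `K : DCoh.DEt X`, `PB w i K` says that
`i^*` of the derived base change map `g^* Rf_* K ⟶ Rf'_* g'^* K` is an isomorphism (`PB_iff`). Pasting,
triangles, way-out.
-/

set_option autoImplicit false
set_option linter.unusedSectionVars false
set_option linter.dupNamespace false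

noncomputable section

namespace K3.PB

open CategoryTheory Category Limits Pretriangulated Triangulated DerivedCategory ZeroObject
open Groth.Agent.Etrest Groth.Agent.Etrest.RDer3 Groth.Agent.Etrest.RDer4 Groth.Agent.Etrest.RDer5
open Groth.Agent.Sga4h.RPair K3.PSq K3.PTri

section derived

universe w w' w'' w''' w₅ v v' v'' v''' v₅ u u' u'' u''' u₅

variable {A : Type u} [Category.{v} A] [Abelian A] [HasDerivedCategory.{w} A]
  {B : Type u'} [Category.{v'} B] [Abelian B] [HasDerivedCategory.{w'} B]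
  {A₂ : Type u''} [Category.{v''} A₂] [Abelian A₂] [HasDerivedCategory.{w''} A₂]
  {B₂ : Type u'''} [Category.{v'''} B₂] [Abelian B₂] [HasDerivedCategory.{w'''} B₂]
  {C : Type u₅} [Category.{v₅} C] [Abelian C] [HasDerivedCategory.{w₅} C]
  {L : B ⥤ A} [L.Additive] [PreservesFiniteLimits L] [PreservesFiniteColimits L]
  {L₂ : B₂ ⥤ A₂} [L₂.Additive] [PreservesFiniteLimits L₂] [PreservesFiniteColimits L₂]
  {E : A ⥤ A₂} [E.Additive] [PreservesFiniteLimits E] [PreservesFiniteColimits E]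
  {E' : B ⥤ B₂} [E'.Additive] [PreservesFiniteLimits E'] [PreservesFiniteColimits E']
  (P : B₂ ⥤ C) [P.Additive] [PreservesFiniteLimits P] [PreservesFiniteColimits P]
  [HasKInj A] {G : A ⥤ B} [G.Additive] (adj : L ⊣ G)
  [HasKInj A₂] {G₂ : A₂ ⥤ B₂} [G₂.Additive] (adj₂ : L₂ ⊣ G₂) (c : E' ⋙ L₂ ≅ L ⋙ E)

include adj adj₂

/-- `PBC` for the derived square. -/
theorem pbc_iff_bcD {D : Type*} [Category* D] (Q : DerivedCategory B₂ ⥤ D) (K : DerivedCategory A) :
    PBC (sq c) Q K ↔ IsIso (Q.map ((bcD (mate adj adj₂ c.hom)).app K)) := by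
  rw [bcD_mate]
  have h1 := mate_counit (dAdj adj) (dAdj adj₂) (cD c.hom) K
  exact pbc_iff_of_eq (s := sq c) (isUniv_TR adj K) (isUniv_TR adj₂ (E.mapDerivedCategory.obj K)) _ h1

/-- Way-out devissage: `K` bounded below. -/
theorem pbc_of_homology (K : DerivedCategory A) (a : ℤ) [K.IsGE a]
    (h : ∀ n : ℤ, PBC (sq c) P.mapDerivedCategory
      ((singleFunctor A n).obj ((homologyFunctor A n).obj K))) :
    PBC (sq c) P.mapDerivedCategory K := by
  refine pbc_of_truncLT (tA := TStructure.t) (tB := TStructure.t) (tA' := TStructure.t)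
    (tB' := TStructure.t) (tD := TStructure.t) (lex L) (lex L₂) (gex E') (gex E) (gex P) (nondeg C)
    (hasUniv adj) (hasUniv adj₂) (fun b => ?_)
  let Pr : ObjectProperty (DerivedCategory A) := fun X => PBC (sq c) P.mapDerivedCategory X
  have hPiso : Pr.IsClosedUnderIsomorphisms := ⟨fun e h => PBC.of_iso h e⟩
  have h0 : ∀ X, IsZero X → Pr X := by
    intro X hX
    apply pbc_of_bc
    refine ⟨0, 0, fun N => ⟨fun x y _ => (isZero_zero _).eq_of_tgt _ _, fun x => ⟨0, hX.eq_of_tgt _ _⟩⟩,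
      fun N => ⟨fun x y _ => (Functor.map_isZero _ (isZero_zero _)).eq_of_tgt _ _,
        fun x => ⟨0, (Functor.map_isZero _ hX).eq_of_tgt _ _⟩⟩⟩
  have hb : ((TStructure.t.truncLT b).obj K).IsLE (b - 1) :=
    (inferInstance : TStructure.t.IsLE ((TStructure.t.truncLT b).obj K) (b - 1))
  have ha : ((TStructure.t.truncLT b).obj K).IsGE a := by
    rw [isGE_iff]
    intro i hi
    by_cases hib : i < b
    · have := Groth.Agent.CohtopB.DTrunc.isIso_homology_map_truncLTι K b i hib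
      exact (isZero_of_isGE K a i hi).of_iso (asIso ((homologyFunctor A i).map ((TStructure.t.truncLTι b).app K)))
    · exact isZero_of_isLE _ (b - 1) i (by lia)
  refine devissage Pr h0 (fun T hT h1 h3 => pbc_two hT (hasUniv adj) (hasUniv adj₂) h1 h3)
    ((TStructure.t.truncLT b).obj K) a (b - 1) (fun n => ?_)
  by_cases hn : n < b
  · have := Groth.Agent.CohtopB.DTrunc.isIso_homology_map_truncLTι K b n hn
    exact Pr.prop_of_iso ((singleFunctor A n).mapIso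
      (asIso ((homologyFunctor A n).map ((TStructure.t.truncLTι b).app K))).symm) (h n)
  · apply h0
    apply Functor.map_isZero
    exact isZero_of_isLE ((TStructure.t.truncLT b).obj K) (b - 1) n (by lia)

end derived

section paste

open Groth.Agent.Sga4h.DPaste

universe w₁ w₂ w₃ w₄ w₅ w₆ v₁ v₂ v₃ v₄ v₅ v₆ u₁ u₂ u₃ u₄ u₅ u₆

section hcomp

variable {B : Type u₁} [Category.{v₁} B] [Abelian B] [HasDerivedCategory.{w₁} B]
  {A : Type u₂} [Category.{v₂} A] [Abelian A] [HasDerivedCategory.{w₂} A]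
  {B₂ : Type u₃} [Category.{v₃} B₂] [Abelian B₂] [HasDerivedCategory.{w₃} B₂]
  {A₂ : Type u₄} [Category.{v₄} A₂] [Abelian A₂] [HasDerivedCategory.{w₄} A₂]
  {B₃ : Type u₅} [Category.{v₅} B₃] [Abelian B₃] [HasDerivedCategory.{w₅} B₃]
  {A₃ : Type u₆} [Category.{v₆} A₃] [Abelian A₃] [HasDerivedCategory.{w₆} A₃]
  {L : B ⥤ A} [L.Additive] [PreservesFiniteLimits L] [PreservesFiniteColimits L]
  {L₂ : B₂ ⥤ A₂} [L₂.Additive] [PreservesFiniteLimits L₂] [PreservesFiniteColimits L₂]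
  {L₃ : B₃ ⥤ A₃} [L₃.Additive] [PreservesFiniteLimits L₃] [PreservesFiniteColimits L₃]
  {E' : B ⥤ B₂} [E'.Additive] [PreservesFiniteLimits E'] [PreservesFiniteColimits E']
  {E : A ⥤ A₂} [E.Additive] [PreservesFiniteLimits E] [PreservesFiniteColimits E]
  {F' : B₂ ⥤ B₃} [F'.Additive] [PreservesFiniteLimits F'] [PreservesFiniteColimits F']
  {F : A₂ ⥤ A₃} [F.Additive] [PreservesFiniteLimits F] [PreservesFiniteColimits F]
  {H' : B ⥤ B₃} [H'.Additive] [PreservesFiniteLimits H'] [PreservesFiniteColimits H']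
  {H : A ⥤ A₃} [H.Additive] [PreservesFiniteLimits H] [PreservesFiniteColimits H]
  (c₁ : E' ⋙ L₂ ≅ L ⋙ E) (c₂ : F' ⋙ L₃ ≅ L₂ ⋙ F) (c : H' ⋙ L₃ ≅ L ⋙ H)
  (γ' : E' ⋙ F' ≅ H') (γ : E ⋙ F ≅ H) {D : Type*} [Category* D] (P : DerivedCategory B₃ ⥤ D)

theorem pbc_hcomp_iff (h : ∀ M : B, L₃.map (γ'.hom.app M) ≫ c.hom.app M =
      c₂.hom.app (E'.obj M) ≫ F.map (c₁.hom.app M) ≫ γ.hom.app (L.obj M)) (K : DerivedCategory A) :
    PBC ((sq c₁).hcomp (sq c₂)) P K ↔ PBC (sq c) P K := by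
  have w := hcomp_compat c₁ c₂ c γ' γ h
  constructor
  · refine PBC.congr _ (Iso.refl _) (compD γ') (compD γ) (Iso.refl _) (fun M => ?_)
    rw [Sq.hcomp_σ_hom_app]
    simp only [Iso.refl_hom, NatTrans.id_app, id_comp, CategoryTheory.Functor.map_id, assoc]
    erw [id_comp]
    exact w M
  · refine PBC.congr _ (Iso.refl _) (compD γ').symm (compD γ).symm (Iso.refl _) (fun M => ?_)
    rw [Sq.hcomp_σ_hom_app]
    simp only [Iso.refl_hom, NatTrans.id_app, id_comp, CategoryTheory.Functor.map_id, Iso.symm_hom]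
    rw [← cancel_epi (L₃.mapDerivedCategory.map ((compD γ').hom.app M)), ← Functor.map_comp_assoc,
      Iso.hom_inv_id_app, CategoryTheory.Functor.map_id, id_comp]
    have w' := w M
    dsimp only [sq_σ_hom]
    erw [id_comp]
    rw [reassoc_of% w', Iso.hom_inv_id_app]
    erw [comp_id]

end hcomp

section vcomp

variable {B : Type u₁} [Category.{v₁} B] [Abelian B] [HasDerivedCategory.{w₁} B]
  {C : Type u₂} [Category.{v₂} C] [Abelian C] [HasDerivedCategory.{w₂} C]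
  {A : Type u₃} [Category.{v₃} A] [Abelian A] [HasDerivedCategory.{w₃} A]
  {B₂ : Type u₄} [Category.{v₄} B₂] [Abelian B₂] [HasDerivedCategory.{w₄} B₂]
  {C₂ : Type u₅} [Category.{v₅} C₂] [Abelian C₂] [HasDerivedCategory.{w₅} C₂]
  {A₂ : Type u₆} [Category.{v₆} A₂] [Abelian A₂] [HasDerivedCategory.{w₆} A₂]
  {L : B ⥤ C} [L.Additive] [PreservesFiniteLimits L] [PreservesFiniteColimits L]
  {N : C ⥤ A} [N.Additive] [PreservesFiniteLimits N] [PreservesFiniteColimits N]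
  {LN : B ⥤ A} [LN.Additive] [PreservesFiniteLimits LN] [PreservesFiniteColimits LN]
  {L₂ : B₂ ⥤ C₂} [L₂.Additive] [PreservesFiniteLimits L₂] [PreservesFiniteColimits L₂]
  {N₂ : C₂ ⥤ A₂} [N₂.Additive] [PreservesFiniteLimits N₂] [PreservesFiniteColimits N₂]
  {LN₂ : B₂ ⥤ A₂} [LN₂.Additive] [PreservesFiniteLimits LN₂] [PreservesFiniteColimits LN₂]
  {E' : B ⥤ B₂} [E'.Additive] [PreservesFiniteLimits E'] [PreservesFiniteColimits E']
  {E₀ : C ⥤ C₂} [E₀.Additive] [PreservesFiniteLimits E₀] [PreservesFiniteColimits E₀]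
  {E : A ⥤ A₂} [E.Additive] [PreservesFiniteLimits E] [PreservesFiniteColimits E]
  (c₁ : E' ⋙ L₂ ≅ L ⋙ E₀) (c₂ : E₀ ⋙ N₂ ≅ N ⋙ E) (c : E' ⋙ LN₂ ≅ LN ⋙ E)
  (ℓ : L ⋙ N ≅ LN) (ℓ₂ : L₂ ⋙ N₂ ≅ LN₂) {D : Type*} [Category* D] (P : DerivedCategory B₂ ⥤ D)

theorem pbc_vcomp_iff (h : ∀ M : B, ℓ₂.hom.app (E'.obj M) ≫ c.hom.app M =
      N₂.map (c₁.hom.app M) ≫ c₂.hom.app (L.obj M) ≫ E.map (ℓ.hom.app M)) (K : DerivedCategory A) :
    PBC ((sq c₁).vcomp (sq c₂)) P K ↔ PBC (sq c) P K := by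
  have w := vcomp_compat c₁ c₂ c ℓ ℓ₂ h
  constructor
  · refine PBC.congr _ (compD ℓ) (Iso.refl _) (Iso.refl _) (compD ℓ₂) (fun M => ?_)
    rw [Sq.vcomp_σ_hom_app]
    simp only [Iso.refl_hom, NatTrans.id_app, CategoryTheory.Functor.map_id, assoc]
    erw [id_comp, comp_id]
    exact w M
  · refine PBC.congr _ (compD ℓ).symm (Iso.refl _) (Iso.refl _) (compD ℓ₂).symm (fun M => ?_)
    rw [Sq.vcomp_σ_hom_app]
    simp only [Iso.refl_hom, NatTrans.id_app, CategoryTheory.Functor.map_id, Iso.symm_hom]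
    erw [id_comp, comp_id]
    rw [← cancel_epi ((compD ℓ₂).hom.app (E'.mapDerivedCategory.obj M)),
      Iso.hom_inv_id_app_assoc]
    have w' := w M
    dsimp only [sq_σ_hom]
    rw [reassoc_of% w', ← Functor.map_comp, Iso.hom_inv_id_app]
    erw [CategoryTheory.Functor.map_id]
    rw [comp_id]

end vcomp

end paste

section schemes

universe u

open AlgebraicGeometry

attribute [local instance] HasDerivedCategory.standard

open Groth.Agent.Etrest.DEtPush Groth.Agent.Etrest.DEtMate Groth.Agent.EtpbcB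
  Groth.Agent.Sga4h.DPaste Groth.Agent.Sga4h.GSq Groth.Agent.Sga4h

variable {X Y Z X' Y' X'' Y'' Z' W : Scheme.{u}}

section basic

variable {f : X ⟶ Y} {g : Y' ⟶ Y} {f' : X' ⟶ Y'} {g' : X' ⟶ X}

/-- `i^*` of the derived base change map for the square `w` and the object `K` is an isomorphism. -/
def PB (w : g' ≫ f = f' ≫ g) (i : W ⟶ Y') (K : DCoh.DEt X) : Prop :=
  PBC (RPair.sq (cmp w)) (pullD i) K

theorem PB_iff (w : g' ≫ f = f' ≫ g) (i : W ⟶ Y') (K : DCoh.DEt X) :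
    PB w i K ↔ IsIso ((pullD i).map ((bcEt w).app K)) := by
  rw [bcEt, bcNat_eq_mate]
  exact pbc_iff_bcD (EtCoh.pullPushAdj f) (EtCoh.pullPushAdj f') (cmp w) (pullD i) K

variable {w : g' ≫ f = f' ≫ g} {i : W ⟶ Y'}

theorem PB.of_iso {K L : DCoh.DEt X} (h : PB w i K) (e : K ≅ L) : PB w i L := PBC.of_iso h e

theorem PB.of_BC {K : DCoh.DEt X} (h : BC w K) : PB w i K := pbc_of_bc h

theorem PB.comp {V : Scheme.{u}} {K : DCoh.DEt X} (h : PB w i K) (j : V ⟶ W) : PB w (j ≫ i) K :=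
  PBC.of_natIso (PBC.comp h (pullD j)) (pullDComp i j)

theorem PB_comp_iff {V : Scheme.{u}} {K : DCoh.DEt X} (j : V ⟶ W) :
    PB w (j ≫ i) K ↔ IsIso ((pullD j).map ((pullD i).map ((bcEt w).app K))) := by
  rw [PB_iff]
  exact (NatIso.isIso_map_iff (pullDComp i j) _).symm

theorem hu (f : X ⟶ Y) (K : DCoh.DEt X) : HasUniv (pullD f) K := hasUniv (EtCoh.pullPushAdj f) K

theorem PB.three {T : Triangle (DCoh.DEt X)} (hT : T ∈ distTriang _) (h₁ : PB w i T.obj₁)
    (h₂ : PB w i T.obj₂) : PB w i T.obj₃ := pbc_three hT (hu f) (hu f') h₁ h₂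

theorem PB.two {T : Triangle (DCoh.DEt X)} (hT : T ∈ distTriang _) (h₁ : PB w i T.obj₁)
    (h₃ : PB w i T.obj₃) : PB w i T.obj₂ := pbc_two hT (hu f) (hu f') h₁ h₃

theorem PB.one {T : Triangle (DCoh.DEt X)} (hT : T ∈ distTriang _) (h₂ : PB w i T.obj₂)
    (h₃ : PB w i T.obj₃) : PB w i T.obj₁ := pbc_one hT (hu f) (hu f') h₂ h₃

/-- Way-out: `K` bounded below. -/
theorem pb_of_homology (K : DCoh.DEt X) (a : ℤ) [K.IsGE a]
    (h : ∀ n : ℤ, PB w i ((DerivedCategory.singleFunctor (EtCoh.Ab X) n).obj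
      ((DerivedCategory.homologyFunctor (EtCoh.Ab X) n).obj K))) : PB w i K :=
  pbc_of_homology (EtCoh.pull i) (EtCoh.pullPushAdj f) (EtCoh.pullPushAdj f') (cmp w) K a h

end basic

section horizontal

variable {f : X ⟶ Y} {g : Y' ⟶ Y} {f' : X' ⟶ Y'} {g' : X' ⟶ X} {f'' : X'' ⟶ Y''} {h : Y'' ⟶ Y'}
  {h' : X'' ⟶ X'} (w₁ : g' ≫ f = f' ≫ g) (w₂ : h' ≫ f' = f'' ≫ h)
  (w : (h' ≫ g') ≫ f = f'' ≫ (h ≫ g)) (i : W ⟶ Y'')

/-- Base change along `g` and `h`, the base change along `h` being an isomorphism. -/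
theorem hcomp_iff_left {K : DCoh.DEt X} (H : BC w₂ ((pullD g').obj K)) :
    PB w i K ↔ PB w₁ (i ≫ h) K := by
  have h1 := DPaste.bc_hcomp_iff (cmp w₁) (cmp w₂) (cmp w) (BCCalc.pullComp g h)
    (BCCalc.pullComp g' h') (GSqCoh.cmp_hcoh w₁ w₂ w) K
  have h2 := pbc_hcomp_iff (cmp w₁) (cmp w₂) (cmp w) (BCCalc.pullComp g h)
    (BCCalc.pullComp g' h') (pullD i) (GSqCoh.cmp_hcoh w₁ w₂ w) K
  have h3 := pbc_hcomp_iff_left (s := RPair.sq (cmp w₁)) (t := RPair.sq (cmp w₂)) (P := pullD i)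
    (hu f K) (hu f' _) H
  refine h2.symm.trans (h3.trans ?_)
  exact ⟨fun k => PBC.of_natIso k (pullDComp h i), fun k => PBC.of_natIso k (pullDComp h i).symm⟩

/-- Base change along `g` and `h`, the base change along `g` being an isomorphism. -/
theorem hcomp_iff_right {K : DCoh.DEt X} (H : BC w₁ K) :
    PB w i K ↔ PB w₂ i ((pullD g').obj K) := by
  have h2 := pbc_hcomp_iff (cmp w₁) (cmp w₂) (cmp w) (BCCalc.pullComp g h)
    (BCCalc.pullComp g' h') (pullD i) (GSqCoh.cmp_hcoh w₁ w₂ w) K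
  exact h2.symm.trans (pbc_hcomp_iff_right (s := RPair.sq (cmp w₁)) (t := RPair.sq (cmp w₂))
    (P := pullD i) H (hu f'' _))

end horizontal

section vertical

variable {f : X ⟶ Y} {g : Y' ⟶ Y} {f' : X' ⟶ Y'} {g' : X' ⟶ X} {e : Z ⟶ X} {e' : Z' ⟶ X'}
  {k : Z' ⟶ Z} (w₁ : g' ≫ f = f' ≫ g) (w₂ : k ≫ e = e' ≫ g')
  (w : k ≫ (e ≫ f) = (e' ≫ f') ≫ g) (i : W ⟶ Y')

theorem pb_vcomp_iff (K : DCoh.DEt Z) :
    PBC ((RPair.sq (cmp w₁)).vcomp (RPair.sq (cmp w₂))) (pullD i) K ↔ PB w i K :=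
  pbc_vcomp_iff (cmp w₁) (cmp w₂) (cmp w) (BCCalc.pullComp f e) (BCCalc.pullComp f' e') (pullD i)
    (GSqCoh.cmp_vcoh w₁ w₂ w) K

/-- Push forward in two steps, the first base change being an isomorphism. -/
theorem vcomp_iff_right {K : DCoh.DEt Z} (H : BC w₂ K) :
    PB w i K ↔ PB w₁ i ((pushD e).obj K) :=
  (pb_vcomp_iff w₁ w₂ w i K).symm.trans
    (pbc_vcomp_iff_of_bc_right (isUniv_pushD e K) H (hu f _) (hu f' _))

/-- Push forward in two steps, the second base change being an isomorphism. -/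
theorem vcomp_iff_left {K : DCoh.DEt Z} (H : BC w₁ ((pushD e).obj K)) :
    PB w i K ↔ IsIso ((pullD i).map ((pushD f').map ((bcEt w₂).app K))) := by
  have h1 := pbc_vcomp_iff_of_bc_left (s := RPair.sq (cmp w₁)) (t := RPair.sq (cmp w₂)) (L := K)
    (P := pullD i) (isUniv_pushD e K) (isUniv_pushD e' ((pullD k).obj K)) H (dPullPush f')
  refine (pb_vcomp_iff w₁ w₂ w i K).symm.trans (h1.trans ?_)
  have : (isUniv_pushD e' ((pullD k).obj K)).lift ((RPair.sq (cmp w₂)).bc ((dPullPush e).counit.app K)) =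
      (bcEt w₂).app K := by
    symm
    apply IsUniv.lift_unique
    rw [bcEt_eq_mate]
    exact mate_counit (dPullPush e) (dPullPush e') (cD (cmp w₂).hom) K
  rw [this]

end vertical

end schemes

end K3.PB
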