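import Groth.Agent.SGA4h.K115.Bridge
import Groth.Agent.SGA4h.K3.PB

/-!
# The derived base change map from the base change maps, after an exact functor

Converse of `K115.Bridge.isIso_map_bc_of_isIso_map_bcD`; shifts.
-/

set_option autoImplicit false
set_option backward.isDefEq.respectTransparency false
set_option linter.unusedSectionVars false
universe w₁ w₂ w₃ w₄ w₅ v₁ v₂ v₃ v₄ v₅ u₁ u₂ u₃ u₄ u₅

open CategoryTheory CategoryTheory.Limits HomologicalComplex

noncomputable section

namespace K3.BridgeConv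

open RDer K557.RDerRes K557.BcAbs Groth.Agent.Etrest.RDer1 Groth.Agent.Etrest.RDer3
  Groth.Agent.Etrest.RDer4 K558 K558.Bridge K115.Bridge

section derived

variable {A : Type u₁} [Category.{v₁} A] [Abelian A] [HasDerivedCategory.{w₁} A] [HasKInj A]
  {B : Type u₂} [Category.{v₂} B] [Abelian B] [HasDerivedCategory.{w₂} B]
  {A₂ : Type u₃} [Category.{v₃} A₂] [Abelian A₂] [HasDerivedCategory.{w₃} A₂] [HasKInj A₂]
  {B₂ : Type u₄} [Category.{v₄} B₂] [Abelian B₂] [HasDerivedCategory.{w₄} B₂]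
  {G : A ⥤ B} [G.Additive] {G₂ : A₂ ⥤ B₂} [G₂.Additive]
  {E : A ⥤ A₂} [E.Additive] [PreservesFiniteLimits E] [PreservesFiniteColimits E]
  {E' : B ⥤ B₂} [E'.Additive] [PreservesFiniteLimits E'] [PreservesFiniteColimits E']
  (β : G ⋙ E' ⟶ E ⋙ G₂)
  {C : Type u₅} [Category.{v₅} C] [Abelian C] [HasDerivedCategory.{w₅} C] (P : B₂ ⥤ C) [P.Additive]
  [PreservesFiniteLimits P] [PreservesFiniteColimits P]

theorem isIso_map_bcD_Q {I' : CochainComplex A ℤ} {J' : CochainComplex A₂ ℤ}
    (v' : (E.mapHomologicalComplex (.up ℤ)).obj I' ⟶ J') [QuasiIso v'] (hI : I'.IsKInjective)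
    (hJ : J'.IsKInjective) (h : QuasiIso ((P.mapHomologicalComplex (.up ℤ)).map (thetaZ β v'))) :
    IsIso (P.mapDerivedCategory.map ((bcD β).app (DerivedCategory.Q.obj I'))) := by
  have h1 := isIso_unitQ_of_isKInjective G I' hI
  have h2 := isIso_unitQ_of_isKInjective G₂ J' hJ
  have h3 := bcD_fac β I'
  have h4 : DerivedCategory.Q.map ((G₂.mapHomologicalComplex (.up ℤ)).map v') ≫ (unitQ G₂).app J' =
      (unitQ G₂).app ((E.mapHomologicalComplex (.up ℤ)).obj I') ≫
        (TR G₂).map (DerivedCategory.Q.map v') := (unitQ G₂).naturality v'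
  have h5 : (E'.mapDerivedCategory.map ((unitQ G).app I') ≫ (bcD β).app (DerivedCategory.Q.obj I')) ≫
      (TR G₂).map (E.mapDerivedCategoryFactors.hom.app I') ≫
        (TR G₂).map (DerivedCategory.Q.map v') =
      E'.mapDerivedCategoryFactors.hom.app ((G.mapHomologicalComplex (.up ℤ)).obj I') ≫
        DerivedCategory.Q.map (thetaZ β v') ≫ (unitQ G₂).app J' := by
    have h4' : (TR G₂).map (E.mapDerivedCategoryFactors.inv.app I') ≫
        (TR G₂).map (E.mapDerivedCategoryFactors.hom.app I') = 𝟙 _ := by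
      rw [← (TR G₂).map_comp, Iso.inv_hom_id_app, (TR G₂).map_id]
    rw [h3, thetaZ, DerivedCategory.Q.map_comp]
    simp only [Category.assoc]
    rw [h4, reassoc_of% h4']
  have h6 : IsIso (E'.mapDerivedCategory.map ((unitQ G).app I')) := inferInstance
  have h7 : IsIso ((TR G₂).map (DerivedCategory.Q.map v')) := inferInstance
  have h11 : IsIso (DerivedCategory.Q.map ((P.mapHomologicalComplex (.up ℤ)).map (thetaZ β v'))) :=
    (DerivedCategory.isIso_Q_map_iff_quasiIso _ _).2 h
  have h10 := P.mapDerivedCategoryFactors.hom.naturality (thetaZ β v')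
  have h9 : IsIso (P.mapDerivedCategory.map (DerivedCategory.Q.map (thetaZ β v'))) := by
    have h12 : IsIso (P.mapDerivedCategoryFactors.hom.app _ ≫
        DerivedCategory.Q.map ((P.mapHomologicalComplex (.up ℤ)).map (thetaZ β v'))) := inferInstance
    have h13 : IsIso ((DerivedCategory.Q ⋙ P.mapDerivedCategory).map (thetaZ β v') ≫
        P.mapDerivedCategoryFactors.hom.app _) := h10.symm ▸ h12
    exact (isIso_comp_right_iff ((DerivedCategory.Q ⋙ P.mapDerivedCategory).map (thetaZ β v'))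
      (P.mapDerivedCategoryFactors.hom.app ((G₂.mapHomologicalComplex (.up ℤ)).obj J'))).1 h13
  have h8 : IsIso (P.mapDerivedCategory.map ((E'.mapDerivedCategory.map ((unitQ G).app I') ≫
      (bcD β).app (DerivedCategory.Q.obj I')) ≫
      (TR G₂).map (E.mapDerivedCategoryFactors.hom.app I') ≫
        (TR G₂).map (DerivedCategory.Q.map v'))) := by
    rw [h5, Functor.map_comp, Functor.map_comp]
    infer_instance
  rw [Functor.map_comp, Functor.map_comp] at h8
  have h14 := IsIso.of_isIso_comp_right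
    (P.mapDerivedCategory.map (E'.mapDerivedCategory.map ((unitQ G).app I')) ≫
      P.mapDerivedCategory.map ((bcD β).app (DerivedCategory.Q.obj I')))
    (P.mapDerivedCategory.map ((TR G₂).map (E.mapDerivedCategoryFactors.hom.app I') ≫
        (TR G₂).map (DerivedCategory.Q.map v')))
  exact IsIso.of_isIso_comp_left
    (P.mapDerivedCategory.map (E'.mapDerivedCategory.map ((unitQ G).app I'))) _

end derived

section main

variable {A : Type u₁} [Category.{v₁} A] [Abelian A] [HasDerivedCategory.{w₁} A] [HasKInj A]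
  [EnoughInjectives A]
  {B : Type u₂} [Category.{v₂} B] [Abelian B] [HasDerivedCategory.{w₂} B]
  {A' : Type u₃} [Category.{v₃} A'] [Abelian A'] [HasDerivedCategory.{w₃} A'] [HasKInj A']
  [EnoughInjectives A']
  {B' : Type u₄} [Category.{v₄} B'] [Abelian B'] [HasDerivedCategory.{w₄} B']
  {Φ : A' ⥤ A} [Φ.Additive] [Φ.PreservesInjectiveObjects] {Ψ : A ⥤ B} [Ψ.Additive]
  {Φ₂ : A' ⥤ B'} [Φ₂.Additive] {Ψ₂ : B' ⥤ B} [Ψ₂.Additive] [PreservesFiniteLimits Ψ₂]
  (e : Φ ⋙ Ψ ≅ Φ₂ ⋙ Ψ₂)
  {L : A ⥤ A'} {L₂ : B ⥤ B'} (adj : L ⊣ Φ) (adj₂ : L₂ ⊣ Ψ₂)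
  [L.Additive] [PreservesFiniteLimits L] [PreservesFiniteColimits L]
  [L₂.Additive] [PreservesFiniteLimits L₂] [PreservesFiniteColimits L₂]
  {C : Type u₅} [Category.{v₅} C] [Abelian C] [HasDerivedCategory.{w₅} C] (P : B' ⥤ C) [P.Additive]
  [PreservesFiniteLimits P] [PreservesFiniteColimits P]

/-- The base change maps control the derived base change transformation, after an exact functor. -/
theorem isIso_map_bcD_of_forall (β : Ψ ⋙ L₂ ⟶ L ⋙ Φ₂)
    (hβ : ∀ M, β.app M = (adj₂.homEquiv _ _).symm (Ψ.map (adj.unit.app M) ≫ e.hom.app (L.obj M)))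
    (F : A) (h : ∀ q : ℕ, IsIso (P.map (bc e adj adj₂ q F))) :
    IsIso (P.mapDerivedCategory.map ((bcD β).app ((DerivedCategory.singleFunctor A 0).obj F))) := by
  let I := injectiveResolution F
  let J := injectiveResolution (L.obj F)
  have hq : QuasiIso (mapAug L I.ι) := inferInstance
  obtain ⟨v, hv⟩ := exists_lift (𝟙 (L.obj F)) (mapAug L I.ι) J.ι
  have hv' : L.map (I.ι.f 0) ≫ v.f 0 = J.ι.f 0 := by
    rw [← mapAug_f_zero, hv, Category.id_comp]
  have hcomp : mapAug L I.ι ≫ v = J.ι := by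
    refine HomologicalComplex.from_single_hom_ext ?_
    rw [HomologicalComplex.comp_f, hv, Category.id_comp]
  have hvq : QuasiIso v := by
    have h1 : QuasiIso (mapAug L I.ι ≫ v) := by rw [hcomp]; infer_instance
    exact quasiIso_of_comp_left (mapAug L I.ι) v
  have hvq' : QuasiIso (vExt v) := by
    have h1 : QuasiIso (extendMap v ComplexShape.embeddingUpNat) := by
      rw [quasiIso_extendMap_iff]
      exact hvq
    unfold vExt
    infer_instance
  have h2 : QuasiIso ((P.mapHomologicalComplex (.up ℕ)).map (theta β v)) := by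
    refine ⟨fun q => ?_⟩
    rw [quasiIsoAt_iff_isIso_homologyMap]
    exact (isIso_map_bc_iff e adj adj₂ P β hβ q F I J v hv').1 (h q)
  have h1 := (quasiIso_map_theta_iff β v P).2 h2
  have hK := isIso_map_bcD_Q β P (I' := I.cochainComplex) (J' := J.cochainComplex) (vExt v)
    inferInstance inferInstance h1
  let i := (DerivedCategory.singleFunctorIsoCompQ A 0).app F ≪≫ asIso (DerivedCategory.Q.map I.ι')
  have h3 := congrArg P.mapDerivedCategory.map ((bcD β).naturality i.hom)
  rw [Functor.map_comp, Functor.map_comp] at h3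
  have h4 : IsIso (P.mapDerivedCategory.map ((bcD β).app ((DerivedCategory.singleFunctor A 0).obj F)) ≫
      P.mapDerivedCategory.map ((L.mapDerivedCategory ⋙ TR Φ₂).map i.hom)) := by
    refine h3 ▸ ?_
    infer_instance
  exact IsIso.of_isIso_comp_right _ (P.mapDerivedCategory.map
    ((L.mapDerivedCategory ⋙ TR Φ₂).map i.hom))

end main


end K3.BridgeConv

namespace K3.BridgeConv

universe u

open CategoryTheory CategoryTheory.Limits AlgebraicGeometry Pretriangulated Triangulated

attribute [local instance] HasDerivedCategory.standard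

open ZeroObject K557.BcQ Groth.Agent Groth.Agent.Sga4h.GSq Groth.Agent.Etrest.DEtPush K3.PB
open scoped Groth.Agent.Sga4B.EtAbInst

variable {X S X' S' Z : Scheme.{u}} {f : X ⟶ S} {g : S' ⟶ S} {f' : X' ⟶ S'} {g' : X' ⟶ X}

theorem pb_single_zero (w : g' ≫ f = f' ≫ g) (i : Z ⟶ S') (F : EtCoh.Ab X)
    (h : ∀ q : ℕ, IsIso ((EtCoh.pull i).map (bq w q F))) :
    PB w i ((DerivedCategory.singleFunctor _ 0).obj F) := by
  rw [PB_iff]
  exact isIso_map_bcD_of_forall (sqIso w) (EtCoh.pullPushAdj g') (EtCoh.pullPushAdj g)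
    (EtCoh.pull i) (EtpbcB.BCCalc.bcNat w) (fun _ => rfl) F h

variable {w : g' ≫ f = f' ≫ g} {i : Z ⟶ S'}

theorem pb_shift_one_iff (K : DCoh.DEt X) : PB w i (K⟦(1 : ℤ)⟧) ↔ PB w i K := by
  have h0 : PB w i (0 : DCoh.DEt X) := PB.of_BC (BC.of_isZero (isZero_zero _))
  have hT := contractible_distinguished₂ K
  exact ⟨fun h => PB.one hT h0 h, fun h => PB.three hT h h0⟩

/-- Shifted sheaves. -/
theorem pb_single (F : EtCoh.Ab X) (h : PB w i ((DerivedCategory.singleFunctor _ 0).obj F)) (m : ℤ) :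
    PB w i ((DerivedCategory.singleFunctor _ m).obj F) := by
  have key : ∀ a : ℤ, PB w i ((DerivedCategory.singleFunctor _ (a + 1)).obj F) ↔
      PB w i ((DerivedCategory.singleFunctor _ a).obj F) := by
    intro a
    let e : ((DerivedCategory.singleFunctor (EtCoh.Ab X) (a + 1)).obj F)⟦(1 : ℤ)⟧ ≅
        (DerivedCategory.singleFunctor (EtCoh.Ab X) a).obj F :=
      ((DerivedCategory.singleFunctors (EtCoh.Ab X)).shiftIso 1 a (a + 1) (by lia)).app F
    rw [← pb_shift_one_iff]
    exact ⟨fun h => h.of_iso e, fun h => h.of_iso e.symm⟩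
  induction m using Int.induction_on with
  | zero => exact h
  | succ m ih => exact (key _).2 ih
  | pred m ih =>
    have := key (-(m : ℤ) - 1)
    rw [sub_add_cancel] at this
    exact this.1 ih

end K3.BridgeConv
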