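import Groth.Agent.SGA4h.K3.PB
import Groth.Agent.Sga4B.ShriekTools
import Groth.Agent.Sga4h.AdmCx

/-!
# Bounded below complexes killed by `n`
-/

set_option autoImplicit false
universe u
open CategoryTheory CategoryTheory.Limits AlgebraicGeometry Pretriangulated Triangulated
open DerivedCategory

attribute [local instance] HasDerivedCategory.standard

noncomputable section

namespace K3.Kn

open Groth.Agent Groth.Agent.Etrest.DEtPush Groth.Agent.Sga4h.GSq Groth.Agent.Sga4h.RPair K3.PB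

variable {X Y : Scheme.{u}} {n : ℕ}

/-- Bounded below and killed by `n`. -/
structure KN (n : ℕ) (K : DCoh.DEt X) : Prop where
  ge : ∃ a : ℤ, K.IsGE a
  zero : n • 𝟙 K = 0

theorem nsmul_id_of_iso {C : Type*} [Category* C] [Preadditive C] {K L : C} (e : K ≅ L) (h : n • 𝟙 K = 0) :
    n • 𝟙 L = 0 := by
  have : n • 𝟙 L = e.inv ≫ (n • 𝟙 K) ≫ e.hom := by
    rw [Preadditive.nsmul_comp, Preadditive.comp_nsmul, Category.id_comp, e.inv_hom_id]
  rw [this, h, zero_comp, comp_zero]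

theorem nsmul_id_map {C D : Type*} [Category* C] [Category* D] [Preadditive C] [Preadditive D]
    (F : C ⥤ D) [F.Additive] {K : C} (h : n • 𝟙 K = 0) : n • 𝟙 (F.obj K) = 0 := by
  rw [← F.map_id, ← Functor.map_nsmul, h, Functor.map_zero]

namespace KN

theorem of_iso {K L : DCoh.DEt X} (h : KN n K) (e : K ≅ L) : KN n L where
  ge := by
    obtain ⟨a, ha⟩ := h.ge
    exact ⟨a, TStructure.t.isGE_of_iso e a⟩
  zero := nsmul_id_of_iso e h.zero

theorem single {G : EtCoh.Ab X} (h : EtCoh.KilledBy n G) (m : ℤ) : KN n ((singleFunctor _ m).obj G) where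
  ge := ⟨m, inferInstance⟩
  zero := nsmul_id_map _ ((Sga4B.ShriekTools.killedBy_iff n G).1 h)

theorem pullD {K : DCoh.DEt Y} (h : KN n K) (f : X ⟶ Y) : KN n ((Etrest.DEtPush.pullD f).obj K) where
  ge := by
    obtain ⟨a, ha⟩ := h.ge
    exact ⟨a, gex (EtCoh.pull f) K a ha⟩
  zero := nsmul_id_map _ h.zero

theorem pushD {K : DCoh.DEt X} (h : KN n K) (f : X ⟶ Y) : KN n ((Etrest.DEtPush.pushD f).obj K) where
  ge := by
    obtain ⟨a, ha⟩ := h.ge
    have ha' : TStructure.t.IsGE K a := ha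
    exact ⟨a, IsUniv.isGE (tA := TStructure.t) (tB := TStructure.t) (K := K) (lex (EtCoh.pull f))
      (isUniv_pushD f K) a⟩
  zero := by
    have : (Etrest.DEtPush.pushD f).Additive := (dPullPush f).right_adjoint_additive
    exact nsmul_id_map _ h.zero

theorem killedBy {K : DCoh.DEt X} (h : KN n K) (m : ℤ) : EtCoh.KilledBy n (DCoh.HDEt K m) :=
  (Sga4B.ShriekTools.killedBy_iff n _).2 (nsmul_id_map (homologyFunctor (EtCoh.Ab X) m) h.zero)

theorem isTorsion {K : DCoh.DEt X} (h : KN n K) (hn : 0 < n) (m : ℤ) :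
    EtCoh.IsTorsion (DCoh.HDEt K m) := by
  intro U s x
  refine ⟨U, 𝟙 U, ⟨x, rfl⟩, ?_⟩
  rw [isOfFinAddOrder_iff_nsmul_eq_zero]
  exact ⟨n, hn, h.killedBy m U _⟩

end KN

end K3.Kn
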