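import Groth.Agent.Sga4h.RPairWay

/-!
# Base change maps after a functor

For a square of inverse image functors `s : Sq Φ G G' Φ'` (see `Sga4h.RPair`) and a functor `P : A' ⥤ D`,
`PBC s P K` says that `P (G (f_* K)) ⟶ P (f'_* (G' K))` is an isomorphism. Pasting.
-/

set_option autoImplicit false

namespace K3.PSq

open CategoryTheory Category Limits
open Groth.Agent.Sga4h.RPair

universe v₁ v₂ v₃ v₄ v₅ v₆ v₇ u₁ u₂ u₃ u₄ u₅ u₆ u₇

section bc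

variable {A : Type u₁} [Category.{v₁} A] {B : Type u₂} [Category.{v₂} B]
  {A' : Type u₃} [Category.{v₃} A'] {B' : Type u₄} [Category.{v₄} B']
  {Φ : A ⥤ B} {G : A ⥤ A'} {G' : B ⥤ B'} {Φ' : A' ⥤ B'} (s : Sq Φ G G' Φ')
  {D : Type u₇} [Category.{v₇} D] (P : A' ⥤ D)

/-- The base change map for `K` becomes an isomorphism after applying `P`. -/
def PBC (K : B) : Prop :=
  ∃ (M : A) (ε : Φ.obj M ⟶ K) (_ : IsUniv Φ ε) (M' : A') (ε' : Φ'.obj M' ⟶ G'.obj K)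
    (h' : IsUniv Φ' ε'), IsIso (P.map (h'.lift (s.bc ε)))

variable {s P}

theorem lift_bc_eq {K : B} {M : A} {ε : Φ.obj M ⟶ K} (h : IsUniv Φ ε) {M' : A'}
    {ε' : Φ'.obj M' ⟶ G'.obj K} (h' : IsUniv Φ' ε') {M₁ : A} {ε₁ : Φ.obj M₁ ⟶ K} (h₁ : IsUniv Φ ε₁)
    {M₁' : A'} {ε₁' : Φ'.obj M₁' ⟶ G'.obj K} (h₁' : IsUniv Φ' ε₁') :
    h'.lift (s.bc ε) = G.map (h.iso h₁).hom ≫ h₁'.lift (s.bc ε₁) ≫ (h₁'.iso h').hom := by
  symm
  apply h'.lift_unique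
  rw [Φ'.map_comp, Φ'.map_comp, assoc, assoc, h₁'.iso_hom_fac h', h₁'.fac]
  have := s.bc_naturality (h.iso h₁).hom (𝟙 K) (ε := ε) (ε₁ := ε₁)
    (by rw [comp_id, h.iso_hom_fac h₁])
  rw [this, G'.map_id, comp_id]

/-- Independence of the choice of the universal pairs. -/
theorem PBC.isIso {K : B} (hP : PBC s P K) {M : A} {ε : Φ.obj M ⟶ K} (h : IsUniv Φ ε) {M' : A'}
    {ε' : Φ'.obj M' ⟶ G'.obj K} (h' : IsUniv Φ' ε') : IsIso (P.map (h'.lift (s.bc ε))) := by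
  obtain ⟨M₁, ε₁, h₁, M₁', ε₁', h₁', hi⟩ := hP
  rw [lift_bc_eq h h' h₁ h₁', P.map_comp, P.map_comp]
  infer_instance

theorem pbc_iff {K : B} {M : A} {ε : Φ.obj M ⟶ K} (h : IsUniv Φ ε) {M' : A'}
    {ε' : Φ'.obj M' ⟶ G'.obj K} (h' : IsUniv Φ' ε') :
    PBC s P K ↔ IsIso (P.map (h'.lift (s.bc ε))) :=
  ⟨fun hP => hP.isIso h h', fun hi => ⟨M, ε, h, M', ε', h', hi⟩⟩

theorem pbc_iff_of_eq {K : B} {M : A} {ε : Φ.obj M ⟶ K} (h : IsUniv Φ ε) {M' : A'}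
    {ε' : Φ'.obj M' ⟶ G'.obj K} (h' : IsUniv Φ' ε') (β : G.obj M ⟶ M') (hβ : Φ'.map β ≫ ε' = s.bc ε) :
    PBC s P K ↔ IsIso (P.map β) := by
  rw [pbc_iff h h', h'.lift_unique _ β hβ]

/-- Base change implies base change after `P`. -/
theorem pbc_of_bc {K : B} (h : s.BC K) : PBC s P K := by
  obtain ⟨M, ε, h₁, h₂⟩ := h
  rw [pbc_iff_of_eq h₁ h₂ (𝟙 _) (by rw [Φ'.map_id, id_comp]), P.map_id]
  infer_instance

theorem PBC.of_iso {K K₁ : B} (h : PBC s P K) (e : K ≅ K₁) : PBC s P K₁ := by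
  obtain ⟨M, ε, h₁, M', ε', h', hi⟩ := h
  have k₁ : IsUniv Φ (ε ≫ e.hom) := h₁.of_iso (Iso.refl _) e _ (by simp)
  have k' : IsUniv Φ' (ε' ≫ G'.map e.hom) := h'.of_iso (Iso.refl _) (G'.mapIso e) _ (by simp)
  rw [pbc_iff_of_eq k₁ k' (h'.lift (s.bc ε))]
  · exact hi
  · rw [← assoc, h'.fac]
    simp [Sq.bc]

theorem PBC.comp {K : B} (h : PBC s P K) {E : Type*} [Category* E] (Q : D ⥤ E) : PBC s (P ⋙ Q) K := by
  obtain ⟨M, ε, h₁, M', ε', h', hi⟩ := h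
  exact ⟨M, ε, h₁, M', ε', h', inferInstanceAs (IsIso (Q.map (P.map _)))⟩

theorem PBC.of_natIso {K : B} (h : PBC s P K) {Q : A' ⥤ D} (e : P ≅ Q) : PBC s Q K := by
  obtain ⟨M, ε, h₁, M', ε', h', hi⟩ := h
  exact ⟨M, ε, h₁, M', ε', h', (NatIso.isIso_map_iff e _).1 hi⟩

section congr

variable {Φ₁ : A ⥤ B} {G₁ : A ⥤ A'} {G₁' : B ⥤ B'} {Φ₁' : A' ⥤ B'} (s₁ : Sq Φ₁ G₁ G₁' Φ₁')

/-- Base change only depends on the functors up to isomorphisms compatible with the squares. -/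
theorem PBC.congr (e : Φ ≅ Φ₁) (g : G ≅ G₁) (g' : G' ≅ G₁') (e' : Φ' ≅ Φ₁')
    (w : ∀ M : A, Φ'.map (g.hom.app M) ≫ e'.hom.app (G₁.obj M) ≫ s₁.σ.hom.app M =
      s.σ.hom.app M ≫ G'.map (e.hom.app M) ≫ g'.hom.app (Φ₁.obj M)) {K : B} (h : PBC s P K) :
    PBC s₁ P K := by
  obtain ⟨M, ε, h₁, M', ε', h', hi⟩ := h
  have k₁ : IsUniv Φ₁ (e.inv.app M ≫ ε) := h₁.of_natIso e.symm
  have k' : IsUniv Φ₁' (e'.inv.app M' ≫ ε' ≫ g'.hom.app K) :=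
    (h'.of_natIso e'.symm).of_iso (Iso.refl _) (g'.app K) _ (by simp)
  rw [pbc_iff_of_eq k₁ k' (g.inv.app M ≫ h'.lift (s.bc ε))]
  · rw [P.map_comp]
    infer_instance
  · have h4 := w M
    have h6 := g'.hom.naturality (e.inv.app M ≫ ε)
    have h7 := e'.hom.naturality (g.hom.app M)
    have h8 := e'.inv.naturality (h'.lift (s.bc ε))
    rw [← cancel_epi (Φ₁'.map (g.hom.app M)), ← cancel_epi (e'.hom.app (G.obj M)), Φ₁'.map_comp,
      assoc, ← Φ₁'.map_comp_assoc, Iso.hom_inv_id_app, CategoryTheory.Functor.map_id, id_comp, reassoc_of% h8,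
      Iso.hom_inv_id_app_assoc, h'.fac_assoc, ← reassoc_of% h7]
    simp only [Sq.bc, assoc]
    rw [reassoc_of% h4, ← h6, ← Functor.map_comp_assoc, Iso.hom_inv_id_app_assoc]

end congr

end bc

section paste

variable {A : Type u₁} [Category.{v₁} A] {B : Type u₂} [Category.{v₂} B]
  {A' : Type u₃} [Category.{v₃} A'] {B' : Type u₄} [Category.{v₄} B']
  {Φ : A ⥤ B} {G : A ⥤ A'} {G' : B ⥤ B'} {Φ' : A' ⥤ B'} {s : Sq Φ G G' Φ'}
  {D : Type u₇} [Category.{v₇} D]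

section horizontal

variable {A'' : Type u₅} [Category.{v₅} A''] {B'' : Type u₆} [Category.{v₆} B'']
  {H : A' ⥤ A''} {H' : B' ⥤ B''} {Φ'' : A'' ⥤ B''} {t : Sq Φ' H H' Φ''} {P : A'' ⥤ D}

/-- If base change holds for the second square, the composite base change map after `P` is the first one
after `H ⋙ P`. -/
theorem pbc_hcomp_iff_left {K : B} (hK : HasUniv Φ K) (hK' : HasUniv Φ' (G'.obj K)) (ht : t.BC (G'.obj K)) :
    PBC (s.hcomp t) P K ↔ PBC s (H ⋙ P) K := by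
  obtain ⟨M, ε, h⟩ := hK
  obtain ⟨M', ε', h'⟩ := hK'
  have h'' := ht.isUniv h'
  rw [pbc_iff h h']
  refine pbc_iff_of_eq (s := s.hcomp t) h h'' (H.map (h'.lift (s.bc ε))) ?_
  rw [Sq.hcomp_bc]
  have := t.bc_naturality (h'.lift (s.bc ε)) (𝟙 (G'.obj K)) (ε := s.bc ε) (ε₁ := ε')
    (by rw [comp_id, h'.fac])
  rw [this, H'.map_id, comp_id]

/-- If base change holds for the first square, the composite base change map is the second one. -/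
theorem pbc_hcomp_iff_right {K : B} (hs : s.BC K) (hK' : HasUniv Φ'' (H'.obj (G'.obj K))) :
    PBC (s.hcomp t) P K ↔ PBC t P (G'.obj K) := by
  obtain ⟨M, ε, h, h'⟩ := hs
  obtain ⟨M'', ε'', h''⟩ := hK'
  rw [pbc_iff h' h'', ← Sq.hcomp_bc]
  exact pbc_iff h h''

end horizontal

section vertical

variable {C : Type u₅} [Category.{v₅} C] {C' : Type u₆} [Category.{v₆} C']
  {Ψ : B ⥤ C} {G'' : C ⥤ C'} {Ψ' : B' ⥤ C'} {t : Sq Ψ G' G'' Ψ'} {P : A' ⥤ D}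

/-- Vertical pasting, the upper square satisfying base change. -/
theorem pbc_vcomp_iff_of_bc_right {K : B} {L : C} {δ : Ψ.obj K ⟶ L} (hδ : IsUniv Ψ δ) (ht : t.BC L)
    (hK : HasUniv Φ K) (hK' : HasUniv Φ' (G'.obj K)) :
    PBC (s.vcomp t) P L ↔ PBC s P K := by
  obtain ⟨M, ε, h⟩ := hK
  obtain ⟨M', ε', h'⟩ := hK'
  rw [pbc_iff h h']
  refine pbc_iff_of_eq (s := s.vcomp t) (h.comp hδ) (h'.comp (ht.isUniv hδ)) (h'.lift (s.bc ε)) ?_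
  rw [Sq.vcomp_bc, Functor.comp_map, ← assoc, ← Ψ'.map_comp, h'.fac]

/-- Vertical pasting, the lower square satisfying base change. -/
theorem pbc_vcomp_iff_of_bc_left {K : B} {L : C} {δ : Ψ.obj K ⟶ L} (hδ : IsUniv Ψ δ)
    {K' : B'} {δ' : Ψ'.obj K' ⟶ G''.obj L} (hδ' : IsUniv Ψ' δ') (hs : s.BC K)
    {R : B' ⥤ A'} (adj : Φ' ⊣ R) :
    PBC (s.vcomp t) P L ↔ IsIso (P.map (R.map (hδ'.lift (t.bc δ)))) := by
  obtain ⟨M, ε, h, h'⟩ := hs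
  set β := hδ'.lift (t.bc δ) with hβ
  have u₁ := IsUniv.of_adjunction adj (G'.obj K)
  have u₂ := IsUniv.of_adjunction adj K'
  have e : IsIso (u₁.lift (s.bc ε)) := by
    rw [u₁.isIso_iff, u₁.fac]
    exact h'
  have key : PBC (s.vcomp t) P L ↔ IsIso (P.map (u₁.lift (s.bc ε) ≫ R.map β)) := by
    refine pbc_iff_of_eq (s := s.vcomp t) (h.comp hδ) (u₂.comp hδ') _ ?_
    rw [Sq.vcomp_bc, Functor.comp_map, ← hδ'.fac (t.bc δ), ← assoc, ← assoc, ← Ψ'.map_comp,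
      ← Ψ'.map_comp]
    congr 2
    rw [Φ'.map_comp, assoc]
    have h1 := adj.counit.naturality β
    dsimp at h1
    rw [h1, u₁.fac_assoc]
  rw [key, P.map_comp]
  exact isIso_comp_left_iff _ _

end vertical

end paste

end K3.PSq
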