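import Groth.Agent.SGA4h.K3.PSq

/-!
# Base change maps after a triangulated functor: triangles and way-out
-/

set_option autoImplicit false
set_option linter.unusedSectionVars false

namespace K3.PTri

open CategoryTheory Category Limits Pretriangulated Triangulated
open Groth.Agent.Sga4h.RPair K3.PSq

universe v₁ v₂ v₃ v₄ v₅ u₁ u₂ u₃ u₄ u₅

section lift

variable {A : Type u₁} [Category.{v₁} A] {B : Type u₂} [Category.{v₂} B]
  [HasShift A ℤ] [HasShift B ℤ] [Preadditive A] [Preadditive B] [HasZeroObject A] [HasZeroObject B]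
  [∀ n : ℤ, (shiftFunctor A n).Additive] [∀ n : ℤ, (shiftFunctor B n).Additive]
  [Pretriangulated A] [Pretriangulated B]
  {Φ : A ⥤ B} [Φ.CommShift ℤ] [Φ.IsTriangulated]

/-- The comparison of a triangle of pairs with a universal one. -/
noncomputable def compTri {T T₁ : Triangle A} {T' : Triangle B} (ε : TriPair Φ T T') (ε₁ : TriPair Φ T₁ T')
    (h₁ : IsUniv Φ ε₁.ε₁) (h₂ : IsUniv Φ ε₁.ε₂) (h₃ : IsUniv Φ ε₁.ε₃) : T ⟶ T₁ where
  hom₁ := h₁.lift ε.ε₁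
  hom₂ := h₂.lift ε.ε₂
  hom₃ := h₃.lift ε.ε₃
  comm₁ := by
    apply h₂.hom_ext
    rw [Φ.map_comp, assoc, h₂.fac, Φ.map_comp, assoc, ε₁.comm₁, h₁.fac_assoc, ε.comm₁]
  comm₂ := by
    apply h₃.hom_ext
    rw [Φ.map_comp, assoc, h₃.fac, Φ.map_comp, assoc, ε₁.comm₂, h₂.fac_assoc, ε.comm₂]
  comm₃ := by
    apply (h₁.shift 1).hom_ext
    rw [Φ.map_comp, assoc, Φ.map_comp, assoc, ε₁.comm₃, h₃.fac_assoc, ← ε.comm₃]
    congr 1
    have h := (Φ.commShiftIso (1 : ℤ)).hom.naturality (h₁.lift ε.ε₁)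
    dsimp at h
    rw [shiftPair, shiftPair, reassoc_of% h, ← Functor.map_comp, h₁.fac]

end lift

section bc

variable {A : Type u₁} [Category.{v₁} A] {B : Type u₂} [Category.{v₂} B]
  {A' : Type u₃} [Category.{v₃} A'] {B' : Type u₄} [Category.{v₄} B']
  [HasShift A ℤ] [HasShift B ℤ] [Preadditive A] [Preadditive B] [HasZeroObject A] [HasZeroObject B]
  [∀ n : ℤ, (shiftFunctor A n).Additive] [∀ n : ℤ, (shiftFunctor B n).Additive]
  [Pretriangulated A] [Pretriangulated B]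
  [HasShift A' ℤ] [HasShift B' ℤ] [Preadditive A'] [Preadditive B'] [HasZeroObject A'] [HasZeroObject B']
  [∀ n : ℤ, (shiftFunctor A' n).Additive] [∀ n : ℤ, (shiftFunctor B' n).Additive]
  [Pretriangulated A'] [Pretriangulated B']
  {Φ : A ⥤ B} {G : A ⥤ A'} {G' : B ⥤ B'} {Φ' : A' ⥤ B'}
  [Φ.CommShift ℤ] [G.CommShift ℤ] [G'.CommShift ℤ] [Φ'.CommShift ℤ]
  [Φ.IsTriangulated] [G.IsTriangulated] [G'.IsTriangulated] [Φ'.IsTriangulated]
  {s : Sq Φ G G' Φ'} [NatTrans.CommShift s.σ.hom ℤ]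
  {D : Type u₅} [Category.{v₅} D] [HasShift D ℤ] [Preadditive D] [HasZeroObject D]
  [∀ n : ℤ, (shiftFunctor D n).Additive] [Pretriangulated D]
  {P : A' ⥤ D} [P.CommShift ℤ] [P.IsTriangulated]

/-- A distinguished triangle of universal pairs, with the comparison of its pullback with a universal
one. -/
theorem exists_comp {T' : Triangle B} (hT' : T' ∈ distTriang B)
    (hu : ∀ K, HasUniv Φ K) (hu' : ∀ K, HasUniv Φ' K) :
    ∃ (T : Triangle A) (_ : T ∈ distTriang A) (ε : TriPair Φ T T')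
      (_ : IsUniv Φ ε.ε₁) (_ : IsUniv Φ ε.ε₂) (_ : IsUniv Φ ε.ε₃)
      (T'' : Triangle A') (_ : T'' ∈ distTriang A') (ε' : TriPair Φ' T'' (G'.mapTriangle.obj T'))
      (h₁' : IsUniv Φ' ε'.ε₁) (h₂' : IsUniv Φ' ε'.ε₂) (h₃' : IsUniv Φ' ε'.ε₃),
      (PBC s P T'.obj₁ ↔ IsIso (P.map (compTri (s.triPair ε) ε' h₁' h₂' h₃').hom₁)) ∧
      (PBC s P T'.obj₂ ↔ IsIso (P.map (compTri (s.triPair ε) ε' h₁' h₂' h₃').hom₂)) ∧
      (PBC s P T'.obj₃ ↔ IsIso (P.map (compTri (s.triPair ε) ε' h₁' h₂' h₃').hom₃)) := by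
  obtain ⟨M₁, ε₁, k₁⟩ := hu T'.obj₁
  obtain ⟨M₂, ε₂, k₂⟩ := hu T'.obj₂
  obtain ⟨M₃, f, g, h, hT, ε, he₁, he₂, k₃⟩ := exists_triPair hT' k₁ k₂
  obtain ⟨M₁', ε₁', k₁'⟩ := hu' (G'.mapTriangle.obj T').obj₁
  obtain ⟨M₂', ε₂', k₂'⟩ := hu' (G'.mapTriangle.obj T').obj₂
  obtain ⟨M₃', f', g', h', hT'', ε', he₁', he₂', k₃'⟩ :=
    exists_triPair (G'.map_distinguished _ hT') k₁' k₂'
  subst he₁ he₂ he₁' he₂'
  exact ⟨_, hT, ε, k₁, k₂, k₃, _, hT'', ε', k₁', k₂', k₃', pbc_iff k₁ k₁', pbc_iff k₂ k₂', pbc_iff k₃ k₃'⟩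

theorem pbc_three {T' : Triangle B} (hT' : T' ∈ distTriang B) (hu : ∀ K, HasUniv Φ K)
    (hu' : ∀ K, HasUniv Φ' K) (h₁ : PBC s P T'.obj₁) (h₂ : PBC s P T'.obj₂) : PBC s P T'.obj₃ := by
  obtain ⟨T, hT, ε, k₁, k₂, k₃, T'', hT'', ε', k₁', k₂', k₃', e₁, e₂, e₃⟩ :=
    exists_comp (s := s) (P := P) hT' hu hu'
  rw [e₁] at h₁
  rw [e₂] at h₂
  rw [e₃]
  exact isIso₃_of_isIso₁₂ (P.mapTriangle.map (compTri (s.triPair ε) ε' k₁' k₂' k₃'))
    (P.map_distinguished _ (G.map_distinguished _ hT)) (P.map_distinguished _ hT'') h₁ h₂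

theorem pbc_two {T' : Triangle B} (hT' : T' ∈ distTriang B) (hu : ∀ K, HasUniv Φ K)
    (hu' : ∀ K, HasUniv Φ' K) (h₁ : PBC s P T'.obj₁) (h₃ : PBC s P T'.obj₃) : PBC s P T'.obj₂ := by
  obtain ⟨T, hT, ε, k₁, k₂, k₃, T'', hT'', ε', k₁', k₂', k₃', e₁, e₂, e₃⟩ :=
    exists_comp (s := s) (P := P) hT' hu hu'
  rw [e₁] at h₁
  rw [e₃] at h₃
  rw [e₂]
  exact isIso₂_of_isIso₁₃ (P.mapTriangle.map (compTri (s.triPair ε) ε' k₁' k₂' k₃'))
    (P.map_distinguished _ (G.map_distinguished _ hT)) (P.map_distinguished _ hT'') h₁ h₃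

theorem pbc_one {T' : Triangle B} (hT' : T' ∈ distTriang B) (hu : ∀ K, HasUniv Φ K)
    (hu' : ∀ K, HasUniv Φ' K) (h₂ : PBC s P T'.obj₂) (h₃ : PBC s P T'.obj₃) : PBC s P T'.obj₁ := by
  obtain ⟨T, hT, ε, k₁, k₂, k₃, T'', hT'', ε', k₁', k₂', k₃', e₁, e₂, e₃⟩ :=
    exists_comp (s := s) (P := P) hT' hu hu'
  rw [e₂] at h₂
  rw [e₃] at h₃
  rw [e₁]
  exact isIso₁_of_isIso₂₃ (P.mapTriangle.map (compTri (s.triPair ε) ε' k₁' k₂' k₃'))
    (P.map_distinguished _ (G.map_distinguished _ hT)) (P.map_distinguished _ hT'') h₂ h₃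

/-- A morphism of distinguished triangles which is an isomorphism on the first objects and whose third
objects are far to the right induces a bijection on morphisms from `N` on the second objects. -/
theorem bijective_of_isGE (tD : TStructure D) {T T₁ : Triangle D} (hT : T ∈ distTriang D)
    (hT₁ : T₁ ∈ distTriang D) (f : T ⟶ T₁) (b : ℤ) (hf : IsIso f.hom₁) (h₃ : tD.IsGE T.obj₃ (b + 1))
    (h₃' : tD.IsGE T₁.obj₃ (b + 1)) (N : D) (hN : tD.IsLE N b) :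
    Function.Bijective (fun φ : N ⟶ T.obj₂ => φ ≫ f.hom₂) := by
  constructor
  · intro φ ψ hφ
    rw [← sub_eq_zero]
    have h0 : (φ - ψ) ≫ f.hom₂ = 0 := by
      rw [Preadditive.sub_comp, sub_eq_zero]
      exact hφ
    generalize φ - ψ = χ at h0
    have h1 : χ ≫ T.mor₂ = 0 := tD.zero _ b (b + 1)
    obtain ⟨x, rfl⟩ := Triangle.coyoneda_exact₂ T hT χ h1
    have h2 : (x ≫ f.hom₁) ≫ T₁.mor₁ = 0 := by
      rw [assoc, ← f.comm₁, ← assoc]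
      exact h0
    have hT₁' := inv_rot_of_distTriang _ hT₁
    obtain ⟨y, hy⟩ := Triangle.coyoneda_exact₂ T₁.invRotate hT₁' (x ≫ f.hom₁) h2
    have h4 : tD.IsGE (T₁.obj₃⟦(-1 : ℤ)⟧) (b + 2) := tD.isGE_shift T₁.obj₃ (b + 1) (-1) (b + 2)
    have h5 : y = 0 := tD.zero (Y := T₁.obj₃⟦(-1 : ℤ)⟧) y b (b + 2) (by lia)
    rw [h5, zero_comp] at hy
    have h6 : x = 0 := by
      rw [← cancel_mono f.hom₁]
      exact hy.trans zero_comp.symm
    rw [h6, zero_comp]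
  · intro y
    have h1 : y ≫ T₁.mor₂ = 0 := tD.zero _ b (b + 1)
    obtain ⟨x, hx⟩ := Triangle.coyoneda_exact₂ T₁ hT₁ y h1
    refine ⟨(x ≫ inv f.hom₁) ≫ T.mor₁, ?_⟩
    dsimp
    rw [assoc, assoc, f.comm₁, IsIso.inv_hom_id_assoc, hx]

variable {tA : TStructure A} {tB : TStructure B} {tA' : TStructure A'} {tB' : TStructure B'}
  {tD : TStructure D}

/-- Way-out. -/
theorem pbc_of_truncLT (hΦ : LEx tA tB Φ) (hΦ' : LEx tA' tB' Φ') (hG : GEx tA tA' G)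
    (hG' : GEx tB tB' G') (hP : GEx tA' tD P) (hnd : Nondeg tD) (hu : ∀ K, HasUniv Φ K)
    (hu' : ∀ K, HasUniv Φ' K) {K : B} (h : ∀ c : ℤ, PBC s P ((tB.truncLT c).obj K)) : PBC s P K := by
  obtain ⟨M, ε, hε⟩ := hu K
  obtain ⟨M', ε', hε'⟩ := hu' (G'.obj K)
  rw [pbc_iff hε hε']
  apply isIso_of_minus hnd
  rintro N ⟨b, hb⟩
  have hN : tD.IsLE N b := hb
  obtain ⟨T, hT, e, k₁, k₂, k₃, T'', hT'', e', k₁', k₂', k₃', e₁, e₂, e₃⟩ :=
    exists_comp (s := s) (P := P) (tB.triangleLTGE_distinguished (b + 1) K) hu hu'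
  have hK₃ : tB.IsGE ((tB.triangleLTGE (b + 1)).obj K).obj₃ (b + 1) := inferInstance
  have hM₃ : tA.IsGE T.obj₃ (b + 1) := IsUniv.isGE hΦ k₃ (b + 1)
  have hGK₃ : tB'.IsGE (G'.mapTriangle.obj ((tB.triangleLTGE (b + 1)).obj K)).obj₃ (b + 1) :=
    hG' _ _ hK₃
  have hM₃' : tA'.IsGE T''.obj₃ (b + 1) := IsUniv.isGE hΦ' k₃' (b + 1)
  have key := bijective_of_isGE tD (P.map_distinguished _ (G.map_distinguished _ hT))
    (P.map_distinguished _ hT'') (P.mapTriangle.map (compTri (s.triPair e) e' k₁' k₂' k₃')) b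
    (e₁.1 (h (b + 1))) (hP _ _ (hG _ _ hM₃)) (hP _ _ hM₃') N hN
  -- compare the two choices of universal pairs
  have h5 := lift_bc_eq (s := s) hε hε' k₂ k₂'
  rw [h5, P.map_comp, P.map_comp]
  have h6 : Function.Bijective (fun φ : N ⟶ P.obj (G.obj M) => φ ≫ P.map (G.map (hε.iso k₂).hom)) :=
    Equiv.bijective ((P.mapIso (G.mapIso (hε.iso k₂))).homToEquiv)
  have h7 : Function.Bijective (fun φ : N ⟶ P.obj T''.obj₂ => φ ≫ P.map (k₂'.iso hε').hom) :=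
    Equiv.bijective ((P.mapIso (k₂'.iso hε')).homToEquiv)
  have h8 := (h7.comp key).comp h6
  refine (congrArg Function.Bijective (funext fun φ => ?_)).mp h8
  change ((φ ≫ P.map (G.map (hε.iso k₂).hom)) ≫ P.map (k₂'.lift (s.bc e.ε₂))) ≫
    P.map (k₂'.iso hε').hom = _
  simp only [assoc]
  rfl

end bc

end K3.PTri
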