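import Groth.Agent.SGA4h.K3.TraitMap
import Groth.Agent.Sga4h.NcChart
import Groth.Agent.Sga4h.NcTrans

/-!
# Change of trait: charts with fewer generators over the hulls
-/

set_option autoImplicit false
set_option linter.style.haveILetI false
universe u
open CategoryTheory CategoryTheory.Limits AlgebraicGeometry

noncomputable section

namespace K3.TraitChart

open Groth.Agent Groth.Agent.Sga4h.NcTD Groth.Agent.Sga4h.NcDefs Groth.Agent.Sga4h.NcPsi
  Groth.Agent.Sga4h.NcTrans Groth.Agent.Sga4h.NcChart K3.TraitMap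
open scoped TensorProduct Polynomial

attribute [local instance] Polynomial.algebra

/-- The affine line commutes with base change. -/
theorem isPullback_line {R R' : Type u} [CommRing R] [CommRing R'] (ρ : R →+* R') :
    IsPullback (SM (Polynomial.mapRingHom ρ)) (SM (Polynomial.C : R' →+* R'[X]))
      (SM (Polynomial.C : R →+* R[X])) (SM ρ) := by
  let _ := ρ.toAlgebra
  exact isPullback_SpecMap_of_isPushout _ _ _ _ (CommRingCat.isPushout_of_isPushout R (R[X]) R' (R'[X]))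

section scheme

variable {R R' S S' B B' : Type u} [CommRing R] [CommRing R'] [CommRing S] [CommRing S'] [CommRing B]
  [CommRing B'] [Algebra R B] [Algebra R' B'] (ρ : R →+* R') (β : B →+* B')
  (hβ : IsPullback (SM β) (SM (algebraMap R' B')) (SM (algebraMap R B)) (SM ρ))
  (hβ' : β.comp (algebraMap R B) = (algebraMap R' B').comp ρ) (b : B)

theorem aeval_comp_C {R B : Type u} [CommRing R] [CommRing B] [Algebra R B] (b : B) :
    (Polynomial.aeval (R := R) b).toRingHom.comp Polynomial.C = algebraMap R B := by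
  ext r
  exact Polynomial.aeval_C b r

include hβ' in
theorem comm_aeval : (Polynomial.aeval (R := R') (β b)).toRingHom.comp (Polynomial.mapRingHom ρ) =
    β.comp (Polynomial.aeval (R := R) b).toRingHom := by
  apply Polynomial.ringHom_ext
  · intro r
    have h1 := RingHom.congr_fun hβ' r
    simp only [RingHom.comp_apply] at h1
    simp [h1]
  · simp

include hβ hβ' in
theorem isPullback_aeval : IsPullback (SM β) (SM (Polynomial.aeval (R := R') (β b)).toRingHom)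
    (SM (Polynomial.aeval (R := R) b).toRingHom) (SM (Polynomial.mapRingHom ρ)) := by
  refine IsPullback.of_bot ?_ ?_ (isPullback_line ρ)
  · rw [← SM_comp, ← SM_comp, aeval_comp_C, aeval_comp_C]
    exact hβ
  · rw [← SM_comp, ← SM_comp, comm_aeval ρ β hβ' b]

end scheme

variable {n : ℕ}

/-- Charts of `B` and of its base change `B'` over the hulls. -/
theorem exists_chart_pair {T T' : TD.{u} n} (φ : TMap T T') (H : Hull T) (H' : Hull T')
    (M : HullMap φ H H') (N : ℕ) (B B' : Type u) [CommRing B] [Algebra T.R B] [CommRing B']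
    [Algebra T'.R B'] (β : B →+* B')
    (hβ : IsPullback (SM β) (SM (algebraMap T'.R B')) (SM (algebraMap T.R B)) (SM φ.ρ))
    (hβ' : β.comp (algebraMap T.R B) = (algebraMap T'.R B').comp φ.ρ)
    (t : Fin (N + 1) → B) (ht : Algebra.adjoin T.R (Set.range t) = ⊤) (b : Fin (N + 1)) :
    ∃ (A₁ : Type u) (_ : CommRing A₁) (_ : Algebra H.T'.R A₁) (s : Fin N → A₁)
      (_ : Algebra.adjoin H.T'.R (Set.range s) = ⊤) (γ : B →+* A₁)
      (A₁' : Type u) (_ : CommRing A₁') (f₁' : H'.T'.R →+* A₁') (γ' : B' →+* A₁')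
      (g₁ : Spec (CommRingCat.of A₁') ⟶ Spec (CommRingCat.of A₁)),
      LimEt (SM γ) ∧ LimEt (SM γ') ∧
      γ.comp (algebraMap T.R B) = (algebraMap H.T'.R A₁).comp (H.ρ.comp Polynomial.C) ∧
      γ'.comp (algebraMap T'.R B') = f₁'.comp (H'.ρ.comp Polynomial.C) ∧
      g₁ ≫ SM γ = SM γ' ≫ SM β ∧
      IsPullback g₁ (SM f₁') (SM (algebraMap H.T'.R A₁)) (SM M.φ'.ρ) ∧
      ∀ z : Spec (CommRingCat.of B'),
        z.asIdeal.comap (Polynomial.aeval (R := T'.R) (β (t b))) =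
          (IsLocalRing.maximalIdeal T'.R).map Polynomial.C →
        ∃ z' : Spec (CommRingCat.of A₁'), SM γ' z' = z ∧
          SM f₁' z' = IsLocalRing.closedPoint H'.T'.R := by
  letI i1 : Algebra T.R[X] B := (Polynomial.aeval (R := T.R) (t b)).toRingHom.toAlgebra
  letI i2 : Algebra T.R[X] H.T'.R := H.ρ.toAlgebra
  letI i1' : Algebra T'.R[X] B' := (Polynomial.aeval (R := T'.R) (β (t b))).toRingHom.toAlgebra
  letI i2' : Algebra T'.R[X] H'.T'.R := H'.ρ.toAlgebra
  have hie : EtPBC.IsIndEtale T.R[X] H.T'.R := H.h4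
  have hie' : EtPBC.IsIndEtale T'.R[X] H'.T'.R := H'.h4
  letI i3 : Algebra H.T'.R (B ⊗[T.R[X]] H.T'.R) := Algebra.TensorProduct.rightAlgebra
  letI i3' : Algebra H'.T'.R (B' ⊗[T'.R[X]] H'.T'.R) := Algebra.TensorProduct.rightAlgebra
  have hc : (algebraMap T.R[X] B).comp Polynomial.C = algebraMap T.R B := aeval_comp_C (t b)
  have hx : algebraMap T.R[X] B Polynomial.X = t b := Polynomial.aeval_X (t b)
  let γ : B →+* B ⊗[T.R[X]] H.T'.R := Algebra.TensorProduct.includeLeftRingHom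
  let γ' : B' →+* B' ⊗[T'.R[X]] H'.T'.R := Algebra.TensorProduct.includeLeftRingHom
  let f₁' : H'.T'.R →+* B' ⊗[T'.R[X]] H'.T'.R := algebraMap _ _
  have hpb : IsPullback (SM γ) (SM (algebraMap H.T'.R (B ⊗[T.R[X]] H.T'.R)))
      (SM (algebraMap T.R[X] B)) (SM H.ρ) :=
    isPullback_SpecMap_of_isPushout _ _ _ _ (CommRingCat.isPushout_tensorProduct T.R[X] B H.T'.R)
  have hpb' : IsPullback (SM γ') (SM f₁') (SM (algebraMap T'.R[X] B')) (SM H'.ρ) :=
    isPullback_SpecMap_of_isPushout _ _ _ _ (CommRingCat.isPushout_tensorProduct T'.R[X] B' H'.T'.R)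
  have h0 : IsPullback (SM β) (SM (algebraMap T'.R[X] B')) (SM (algebraMap T.R[X] B))
      (SM (Polynomial.mapRingHom φ.ρ)) := isPullback_aeval φ.ρ β hβ hβ' (t b)
  have h1 : IsPullback (SM γ' ≫ SM β) (SM f₁') (SM (algebraMap T.R[X] B))
      (SM M.φ'.ρ ≫ SM H.ρ) := by
    have h2 := hpb'.paste_horiz h0
    have h3 : SM H'.ρ ≫ SM (Polynomial.mapRingHom φ.ρ) = SM M.φ'.ρ ≫ SM H.ρ := by
      rw [← SM_comp, ← M.hρ, SM_comp]
    rw [h3] at h2
    exact h2
  have h2 : (SM γ' ≫ SM β) ≫ SM (algebraMap T.R[X] B) = (SM f₁' ≫ SM M.φ'.ρ) ≫ SM H.ρ := by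
    rw [h1.w, Category.assoc]
  let g₁ := hpb.lift (SM γ' ≫ SM β) (SM f₁' ≫ SM M.φ'.ρ) h2
  have hg₁ : g₁ ≫ SM γ = SM γ' ≫ SM β := hpb.lift_fst _ _ _
  have hg₂ : g₁ ≫ SM (algebraMap H.T'.R (B ⊗[T.R[X]] H.T'.R)) = SM f₁' ≫ SM M.φ'.ρ := hpb.lift_snd _ _ _
  have h3 : IsPullback g₁ (SM f₁') (SM (algebraMap H.T'.R (B ⊗[T.R[X]] H.T'.R))) (SM M.φ'.ρ) := by
    refine IsPullback.of_right ?_ hg₂ hpb
    rw [hg₁]
    exact h1
  refine ⟨B ⊗[T.R[X]] H.T'.R, inferInstance, i3, fun i => (t (b.succAbove i)) ⊗ₜ[T.R[X]] (1 : H.T'.R),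
    adjoin_eq_top T.R[X] H.T'.R B Polynomial.C hc t ht b Polynomial.X hx, γ,
    B' ⊗[T'.R[X]] H'.T'.R, inferInstance, f₁', γ', g₁, ?_, ?_, ?_, ?_, hg₁, h3, ?_⟩
  · exact Sga4h.NcLimEt2.LimEt_Spec B (B ⊗[T.R[X]] H.T'.R)
      (Groth.Agent.Proet.IndEtale.isIndEtale_baseChange T.R[X] H.T'.R B hie)
  · exact Sga4h.NcLimEt2.LimEt_Spec B' (B' ⊗[T'.R[X]] H'.T'.R)
      (Groth.Agent.Proet.IndEtale.isIndEtale_baseChange T'.R[X] H'.T'.R B' hie')
  · ext r
    have h1 : algebraMap T.R B r = algebraMap T.R[X] B (Polynomial.C r) := by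
      rw [← hc]; rfl
    change (algebraMap T.R B r) ⊗ₜ[T.R[X]] (1 : H.T'.R) = _
    rw [h1]
    exact tmul_one_eq T.R[X] H.T'.R B (Polynomial.C r)
  · ext r
    have h1 : algebraMap T'.R B' r = algebraMap T'.R[X] B' (Polynomial.C r) := by
      rw [← aeval_comp_C (R := T'.R) (β (t b))]; rfl
    change (algebraMap T'.R B' r) ⊗ₜ[T'.R[X]] (1 : H'.T'.R) = _
    rw [h1]
    exact tmul_one_eq T'.R[X] H'.T'.R B' (Polynomial.C r)
  · intro z hz
    exact exists_point T'.R[X] H'.T'.R B' z (IsLocalRing.closedPoint H'.T'.R) (hz.trans H'.h5.symm)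

end K3.TraitChart
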