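import Groth.Agent.SGA4h.K3.Kn
import Groth.Agent.Sga4h.NcTrans
import Groth.Agent.SGA5VII.K558.Bridge

/-!
# Derived base change along limits of étale morphisms
-/

set_option autoImplicit false
universe u
open CategoryTheory CategoryTheory.Limits AlgebraicGeometry Pretriangulated Triangulated
open DerivedCategory

attribute [local instance] HasDerivedCategory.standard

noncomputable section

namespace K3.WeakBC

open Groth.Agent Groth.Agent.Etrest.DEtPush Groth.Agent.Sga4h.GSq Groth.Agent.Sga4h.RPair K3.PB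
  Groth.Agent.Etrest.RDer2 Groth.Agent.Etrest.RDer3 Groth.Agent.Etrest.RDer4 Groth.Agent.Sga4h.NcDefs

variable {X Y X' Y' : Scheme.{u}}

/-- Base change along a limit of étale morphisms, for sheaves. -/
theorem bc_single_of_limEt {f : X ⟶ Y} {g : Y' ⟶ Y} {f' : X' ⟶ Y'} {g' : X' ⟶ X}
    (h : IsPullback g' f' f g) (hg : LimEt g) [QuasiCompact f] [QuasiSeparated f] (F : EtCoh.Ab X) :
    BC h.w ((singleFunctor (EtCoh.Ab X) 0).obj F) := by
  obtain ⟨J, i1, i2, D, π, ⟨hlim⟩, h1, h2, h3⟩ := hg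
  have hwe : WeaklyEtale g := Sga4h.NcLimEt.weaklyEtale_of_limit_etale D h1 h2 ⟨Y', π⟩ hlim g h3
  have h0 : ∀ F, IsIso (EtCoh.baseChange0 f g f' g' h.w F) := fun F =>
    Sga4h.NcLimEt.isIso_baseChange0_of_limit_etale D h1 h2 ⟨Y', π⟩ hlim g h3 f f' g' h F
  rw [BC_iff]
  let I := injectiveResolution F
  refine isIso_bcD_of_iso _ (K := DerivedCategory.Q.obj I.cochainComplex) ?_ ?_
  · exact ((DerivedCategory.singleFunctorIsoCompQ _ 0).app F ≪≫ asIso (DerivedCategory.Q.map I.ι')).symm
  · have : I.cochainComplex.IsStrictlyGE 0 := inferInstance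
    have hinj : ∀ i, Injective (I.cochainComplex.X i) := inferInstance
    refine isIso_bcD_Q_of_isAcyc _ I.cochainComplex 0 (fun i => isAcyc_of_injective _ _) (fun i q => ?_)
      (fun i => h0 _)
    exact Sga4h.NcLimEt.isZero_Rpush_pull f g f' g' h _ _
      (Functor.isZero_rightDerived_obj_injective_succ _ _ _)

/-- Base change along a limit of étale morphisms, for bounded below complexes. -/
theorem bc_of_limEt {f : X ⟶ Y} {g : Y' ⟶ Y} {f' : X' ⟶ Y'} {g' : X' ⟶ X}
    (h : IsPullback g' f' f g) (hg : LimEt g) [QuasiCompact f] [QuasiSeparated f] (K : DCoh.DEt X)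
    (hK : ∃ a : ℤ, K.IsGE a) : BC h.w K := by
  obtain ⟨a, ha⟩ := hK
  exact bc_of_homology₀ K a (fun n => bc_single_of_limEt h hg _)

end K3.WeakBC
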