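import Groth.Agent.SGA4h.K3.TraitMap
import Groth.Agent.SGA4h.K3.WeakBC

/-!
# Change of trait: data and comparison with charts

`Dat φ f`: for a morphism of traits `φ : T → T'` and `f : X ⟶ Spec R`, the fibres used to compare nearby cycles.
`chart_iff`: the base change map restricted to a chart is the base change map of the chart.
-/

set_option autoImplicit false
universe u
open CategoryTheory CategoryTheory.Limits AlgebraicGeometry Pretriangulated Triangulated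
open DerivedCategory

attribute [local instance] HasDerivedCategory.standard

noncomputable section

namespace K3.TraitDat

open Groth.Agent Groth.Agent.Etrest.DEtPush Groth.Agent.Sga4h.GSq Groth.Agent.Sga4h.RPair K3.PB K3.Kn
  K3.TraitMap K3.WeakBC
open Groth.Agent.Sga4h.NcTD Groth.Agent.Sga4h.NcDefs Groth.Agent.Sga4h.NcPsi Groth.Agent.Sga4h.NcTrans

variable {n : ℕ}

/-- The fibres entering the comparison of nearby cycles for `φ : T → T'` and `f : X ⟶ Spec R`. -/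
structure Dat {T T' : TD.{u} n} (φ : TMap T T') {X : Scheme.{u}} (f : X ⟶ Spec (CommRingCat.of T.R)) where
  /-- `X ×_R R'` -/
  X' : Scheme.{u}
  /-- `X ×_R L` -/
  XL : Scheme.{u}
  /-- `X' ×_R' L'` -/
  XL' : Scheme.{u}
  /-- the special fibre of `X'` -/
  Xs' : Scheme.{u}
  g : X' ⟶ X
  f' : X' ⟶ Spec (CommRingCat.of T'.R)
  hX : IsPullback g f' f (SM φ.ρ)
  j : XL ⟶ X
  fL : XL ⟶ Spec (CommRingCat.of T.L)
  hL : IsPullback j fL f (SM (algebraMap T.R T.L))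
  j' : XL' ⟶ X'
  fL' : XL' ⟶ Spec (CommRingCat.of T'.L)
  hL' : IsPullback j' fL' f' (SM (algebraMap T'.R T'.L))
  gL : XL' ⟶ XL
  w : gL ≫ j = j' ≫ g
  wL : gL ≫ fL = fL' ≫ SM φ.lam
  i : Xs' ⟶ X'
  fs : Xs' ⟶ Spec (CommRingCat.of (IsLocalRing.ResidueField T'.R))
  hs : IsPullback i fs f' (SM (IsLocalRing.residue T'.R))

theorem tmap_L {T T' : TD.{u} n} (φ : TMap T T') :
    φ.lam.comp (algebraMap T.R T.L) = (algebraMap T'.R T'.L).comp φ.ρ := by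
  rw [IsScalarTower.algebraMap_eq T.R T.K T.L, IsScalarTower.algebraMap_eq T'.R T'.K T'.L,
    ← RingHom.comp_assoc, φ.h2, RingHom.comp_assoc, φ.h1, RingHom.comp_assoc]

theorem comm_L {T T' : TD.{u} n} (φ : TMap T T') :
    SM φ.lam ≫ SM (algebraMap T.R T.L) = SM (algebraMap T'.R T'.L) ≫ SM φ.ρ := by
  rw [← SM_comp, ← SM_comp, tmap_L]

section mk

variable {T T' : TD.{u} n} (φ : TMap T T') {X X' : Scheme.{u}}
  (f : X ⟶ Spec (CommRingCat.of T.R)) (g : X' ⟶ X) (f' : X' ⟶ Spec (CommRingCat.of T'.R))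
  (hX : IsPullback g f' f (SM φ.ρ))

include hX in
theorem mk_aux : (pullback.fst f' (SM (algebraMap T'.R T'.L)) ≫ g) ≫ f =
      (pullback.snd f' (SM (algebraMap T'.R T'.L)) ≫ SM φ.lam) ≫ SM (algebraMap T.R T.L) := by
  rw [Category.assoc, Category.assoc, comm_L, hX.w, ← Category.assoc, ← Category.assoc,
    pullback.condition (f := f')]

/-- The data with prescribed `X'`. -/
@[reducible]
def mkDat : Dat φ f where
  X' := X'
  XL := pullback f (SM (algebraMap T.R T.L))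
  XL' := pullback f' (SM (algebraMap T'.R T'.L))
  Xs' := pullback f' (SM (IsLocalRing.residue T'.R))
  g := g
  f' := f'
  hX := hX
  j := pullback.fst _ _
  fL := pullback.snd _ _
  hL := IsPullback.of_hasPullback _ _
  j' := pullback.fst _ _
  fL' := pullback.snd _ _
  hL' := IsPullback.of_hasPullback _ _
  gL := pullback.lift _ _ (mk_aux φ f g f' hX)
  w := pullback.lift_fst _ _ _
  wL := pullback.lift_snd _ _ _
  i := pullback.fst _ _
  fs := pullback.snd _ _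
  hs := IsPullback.of_hasPullback _ _

theorem exists_dat : Nonempty (Dat φ f) :=
  ⟨mkDat φ f (pullback.fst f (SM φ.ρ)) (pullback.snd f (SM φ.ρ)) (IsPullback.of_hasPullback _ _)⟩

end mk

theorem pb_congr {X Y X' Y' W : Scheme.{u}} {f₁ f₂ : X ⟶ Y} {g₁ g₂ : Y' ⟶ Y} {f₁' f₂' : X' ⟶ Y'}
    {k₁ k₂ : X' ⟶ X} {i₁ i₂ : W ⟶ Y'} (hf : f₁ = f₂) (hg : g₁ = g₂) (hf' : f₁' = f₂') (hk : k₁ = k₂)
    (hi : i₁ = i₂) (w₁ : k₁ ≫ f₁ = f₁' ≫ g₁) (w₂ : k₂ ≫ f₂ = f₂' ≫ g₂) (K : DCoh.DEt X) :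
    PB w₁ i₁ K ↔ PB w₂ i₂ K := by
  subst hf hg hf' hk hi
  rfl

namespace Dat

variable {T T' : TD.{u} n} {φ : TMap T T'} {X : Scheme.{u}} {f : X ⟶ Spec (CommRingCat.of T.R)}

/-- The map of nearby cycles (complexes). -/
def β (D : Dat φ f) (K : DCoh.DEt D.XL) : (pullD D.i).obj ((pullD D.g).obj ((pushD D.j).obj K)) ⟶
    (pullD D.i).obj ((pushD D.j').obj ((pullD D.gL).obj K)) :=
  (pullD D.i).map ((bcEt D.w).app K)

/-- Change of trait holds for all bounded below complexes killed by `n`. -/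
def CT (D : Dat φ f) : Prop := ∀ K : DCoh.DEt D.XL, KN n K → IsIso (D.β K)

theorem pb_iff (D : Dat φ f) (K : DCoh.DEt D.XL) : PB D.w D.i K ↔ IsIso (D.β K) := PB_iff _ _ _

theorem isAffineHom_j (D : Dat φ f) : IsAffineHom D.j :=
  MorphismProperty.of_isPullback D.hL.flip inferInstance

theorem isAffineHom_j' (D : Dat φ f) : IsAffineHom D.j' :=
  MorphismProperty.of_isPullback D.hL'.flip inferInstance

theorem isPullback_gL (D : Dat φ f) : IsPullback D.gL D.fL' D.fL (SM φ.lam) := by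
  have h1 : IsPullback (D.j' ≫ D.g) D.fL' f (SM (algebraMap T'.R T'.L) ≫ SM φ.ρ) :=
    D.hL'.paste_horiz D.hX
  rw [← comm_L, ← D.w] at h1
  exact (IsPullback.of_bot h1.flip D.wL.symm D.hL.flip).flip

end Dat

section chart

variable {T T' T₁ T₁' : TD.{u} n} {φ : TMap T T'} {φ₁ : TMap T₁ T₁'} (ψ : TDHom T T₁) (ψ' : TDHom T' T₁')
  (hlam : ψ'.lam.comp φ.lam = φ₁.lam.comp ψ.lam)
  {X X₁ : Scheme.{u}} {f : X ⟶ Spec (CommRingCat.of T.R)} {f₁ : X₁ ⟶ Spec (CommRingCat.of T₁.R)}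
  (D : Dat φ f) (D₁ : Dat φ₁ f₁) (h : X₁ ⟶ X) (hh : LimEt h) (hw : h ≫ f = f₁ ≫ SM ψ.ρ)
  (h' : D₁.X' ⟶ D.X') (hh' : LimEt h') (hg : h' ≫ D.g = D₁.g ≫ h) (hw' : h' ≫ D.f' = D₁.f' ≫ SM ψ'.ρ)

theorem isPullback_of_tdHom {T T₁ : TD.{u} n} (ψ : TDHom T T₁) {X X₁ XL XL₁ : Scheme.{u}}
    {f : X ⟶ Spec (CommRingCat.of T.R)} {f₁ : X₁ ⟶ Spec (CommRingCat.of T₁.R)} {h : X₁ ⟶ X}
    (hw : h ≫ f = f₁ ≫ SM ψ.ρ) {j : XL ⟶ X} {fL : XL ⟶ Spec (CommRingCat.of T.L)}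
    (hL : IsPullback j fL f (SM (algebraMap T.R T.L))) {j₁ : XL₁ ⟶ X₁}
    {fL₁ : XL₁ ⟶ Spec (CommRingCat.of T₁.L)} (hL₁ : IsPullback j₁ fL₁ f₁ (SM (algebraMap T₁.R T₁.L))) :
    ∃ k : XL₁ ⟶ XL, IsPullback k j₁ j h ∧ k ≫ fL = fL₁ ≫ SM ψ.lam := by
  have wL : (j₁ ≫ h) ≫ f = (fL₁ ≫ SM ψ.lam) ≫ SM (algebraMap T.R T.L) := by
    have h2 := (isPullback_L ψ).w
    rw [Category.assoc, hw, Category.assoc, h2, ← Category.assoc, ← Category.assoc, hL₁.w]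
  refine ⟨hL.lift _ _ wL, ?_, hL.lift_snd _ _ _⟩
  have h1 := hL₁.paste_vert (isPullback_L ψ).flip
  have h3 : IsPullback j₁ (hL.lift _ _ wL ≫ fL) (h ≫ f) (SM (algebraMap T.R T.L)) := by
    rw [hL.lift_snd, hw]
    exact h1
  exact (IsPullback.of_bot h3 (hL.lift_fst _ _ _).symm hL).flip

include hlam hh hw hh' hg hw'

/-- The base change map restricted to a chart is the base change map of the chart. -/
theorem chart_iff : ∃ (hL : D₁.XL ⟶ D.XL) (hs : D₁.Xs' ⟶ D.Xs'), IsPullback hL D₁.j D.j h ∧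
    hL ≫ D.fL = D₁.fL ≫ SM ψ.lam ∧ hs ≫ D.i = D₁.i ≫ h' ∧
    ∀ K : DCoh.DEt D.XL, (∃ a : ℤ, K.IsGE a) →
      (IsIso ((pullD hs).map (D.β K)) ↔ IsIso (D₁.β ((pullD hL).obj K))) := by
  have := ψ'.h0
  obtain ⟨hL, hsq, hL2⟩ := isPullback_of_tdHom ψ hw D.hL D₁.hL
  obtain ⟨hL', hsq', hL2'⟩ := isPullback_of_tdHom ψ' hw' D.hL' D₁.hL'
  have ws : (D₁.i ≫ h') ≫ D.f' = (D₁.fs ≫ SM (IsLocalRing.ResidueField.map ψ'.ρ)) ≫
      SM (IsLocalRing.residue T'.R) := by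
    rw [Category.assoc, Category.assoc, comm_k, hw', ← Category.assoc, ← Category.assoc, D₁.hs.w]
  let hs : D₁.Xs' ⟶ D.Xs' := D.hs.lift _ _ ws
  have hhs : hs ≫ D.i = D₁.i ≫ h' := D.hs.lift_fst _ _ _
  refine ⟨hL, hs, hsq, hL2, hhs, fun K hK => ?_⟩
  have haff := D.isAffineHom_j
  have haff' := D.isAffineHom_j'
  have e1 : hL' ≫ D.gL = D₁.gL ≫ hL := by
    apply D.hL.hom_ext
    · rw [Category.assoc, D.w, Category.assoc, hsq.w, ← Category.assoc, hsq'.w, Category.assoc, hg,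
        ← Category.assoc D₁.gL, D₁.w, Category.assoc]
    · rw [Category.assoc, D.wL, Category.assoc, hL2, ← Category.assoc, hL2', ← Category.assoc D₁.gL,
        D₁.wL, Category.assoc, Category.assoc, ← SM_comp, ← SM_comp, hlam]
  have w3 : (hL' ≫ D.gL) ≫ D.j = D₁.j' ≫ (h' ≫ D.g) := by
    rw [Category.assoc, D.w, ← Category.assoc, hsq'.w, Category.assoc]
  have w4 : (D₁.gL ≫ hL) ≫ D.j = D₁.j' ≫ (D₁.g ≫ h) := by rw [← e1, ← hg, w3]
  have hb' : BC hsq'.w ((pullD D.gL).obj K) := by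
    refine bc_of_limEt hsq' hh' _ ?_
    obtain ⟨a, ha⟩ := hK
    exact ⟨a, gex (EtCoh.pull D.gL) K a ha⟩
  have hb : BC hsq.w K := bc_of_limEt hsq hh K hK
  have k1 := hcomp_iff_left D.w hsq'.w w3 D₁.i (K := K) hb'
  have k2 := hcomp_iff_right hsq.w D₁.w w4 D₁.i (K := K) hb
  have k3 : PB w3 D₁.i K ↔ PB w4 D₁.i K := pb_congr rfl hg rfl e1 rfl _ _ K
  have k4 : PB D.w (D₁.i ≫ h') K ↔ PB D.w (hs ≫ D.i) K := pb_congr rfl rfl rfl rfl hhs.symm _ _ K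
  rw [← Dat.pb_iff, ← k2, ← k3, k1, k4, PB_comp_iff]
  rfl

end chart

end K3.TraitDat
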