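import Groth.Agent.SGA4h.K3.TraitProper
import Groth.Agent.SGA4h.K3.TraitChart
import Groth.Agent.Sga4h.NcStepB

/-!
# Change of trait: the induction

For a class `Good` of morphisms of traits, stable under passage to hulls and for which the comparison over the
traits themselves holds, nearby cycles commute with change of trait for all schemes of finite type (`ct_all`).
-/

set_option autoImplicit false
universe u
open CategoryTheory CategoryTheory.Limits AlgebraicGeometry Pretriangulated Triangulated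
open DerivedCategory

attribute [local instance] HasDerivedCategory.standard

noncomputable section

namespace K3.TraitInd

open Groth.Agent Groth.Agent.Etrest.DEtPush Groth.Agent.Sga4h.GSq Groth.Agent.Sga4h.RPair K3.PB K3.Kn
  K3.TraitMap K3.TraitDat K3.TraitProper K3.TraitChart
open Groth.Agent.Sga4h.NcTD Groth.Agent.Sga4h.NcDefs Groth.Agent.Sga4h.NcPsi Groth.Agent.Sga4h.NcTrans
open scoped TensorProduct Polynomial

variable {n : ℕ}

/-- Change of trait holds for `f : X ⟶ Spec R`. -/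
def CTall {T T' : TD.{u} n} (φ : TMap T T') {X : Scheme.{u}} (f : X ⟶ Spec (CommRingCat.of T.R)) : Prop :=
  ∀ D : Dat φ f, D.CT

section one

variable {T T' : TD.{u} n} {φ : TMap T T'} {P : Scheme.{u}} {p : P ⟶ Spec (CommRingCat.of T.R)}
  (D : Dat φ p)

theorem isClosedImmersion_i : IsClosedImmersion D.i :=
  MorphismProperty.of_isPullback (P := @IsClosedImmersion) D.hs.flip
    (IsClosedImmersion.spec_of_surjective _ IsLocalRing.residue_surjective)

/-- A point of the closed fibre lifts along a chart. -/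
theorem mem_range_hs {T₁ T₁' : TD.{u} n} {φ₁ : TMap T₁ T₁'} {X₁ : Scheme.{u}}
    {f₁ : X₁ ⟶ Spec (CommRingCat.of T₁.R)} (D₁ : Dat φ₁ f₁) (h' : D₁.X' ⟶ D.X') (hs : D₁.Xs' ⟶ D.Xs')
    (hhs : hs ≫ D.i = D₁.i ≫ h') (y : D.Xs') (z' : D₁.X') (hz : h' z' = D.i y)
    (hz' : D₁.f' z' = IsLocalRing.closedPoint T₁'.R) : y ∈ Set.range hs := by
  have hi := isClosedImmersion_i D
  let w₀ : Spec (CommRingCat.of (IsLocalRing.ResidueField T₁'.R)) := IsLocalRing.closedPoint _
  have hw₀ : SM (IsLocalRing.residue T₁'.R) w₀ = IsLocalRing.closedPoint T₁'.R :=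
    IsLocalRing.comap_closedPoint (IsLocalRing.residue T₁'.R)
  obtain ⟨w, hw1, hw2⟩ := Scheme.Pullback.exists_preimage_pullback (f := D₁.f')
    (g := SM (IsLocalRing.residue T₁'.R)) z' w₀ (hz'.trans hw₀.symm)
  let w' : D₁.Xs' := D₁.hs.isoPullback.inv w
  have hw' : D₁.i w' = z' := by
    change D₁.i (D₁.hs.isoPullback.inv w) = z'
    rw [← Scheme.Hom.comp_apply, IsPullback.isoPullback_inv_fst]
    exact hw1
  refine ⟨w', ?_⟩
  apply D.i.isClosedEmbedding.injective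
  rw [← Scheme.Hom.comp_apply, hhs, Scheme.Hom.comp_apply, hw', hz]

/-- The chart of `P'` induced by an affine chart of `P`. -/
theorem exists_chart' (B : Type u) [CommRing B] [Algebra T.R B] (N : ℕ) (t : Fin N → B)
    (ht : Algebra.adjoin T.R (Set.range t) = ⊤) (u : Spec (CommRingCat.of B) ⟶ P) [IsOpenImmersion u]
    (hu : u ≫ p = SM (algebraMap T.R B)) :
    ∃ (B' : Type u) (_ : CommRing B') (_ : Algebra T'.R B') (β : B →+* B')
      (_ : Algebra.adjoin T'.R (Set.range fun i => β (t i)) = ⊤)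
      (_ : IsPullback (SM β) (SM (algebraMap T'.R B')) (SM (algebraMap T.R B)) (SM φ.ρ))
      (_ : β.comp (algebraMap T.R B) = (algebraMap T'.R B').comp φ.ρ)
      (u' : Spec (CommRingCat.of B') ⟶ D.X') (_ : IsOpenImmersion u'),
      u' ≫ D.f' = SM (algebraMap T'.R B') ∧ u' ≫ D.g = SM β ≫ u ∧
      ∀ x : D.X', D.g x ∈ Set.range u → x ∈ Set.range u' := by
  let _ : Algebra T.R T'.R := φ.ρ.toAlgebra
  let β : B →+* T'.R ⊗[T.R] B := Algebra.TensorProduct.includeRight.toRingHom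
  have hβ : IsPullback (SM β) (SM (algebraMap T'.R (T'.R ⊗[T.R] B))) (SM (algebraMap T.R B))
      (SM φ.ρ) :=
    (isPullback_SpecMap_of_isPushout _ _ _ _ (CommRingCat.isPushout_tensorProduct T.R T'.R B)).flip
  have hβ' : β.comp (algebraMap T.R B) = (algebraMap T'.R (T'.R ⊗[T.R] B)).comp φ.ρ := by
    ext r
    change (1 : T'.R) ⊗ₜ[T.R] (algebraMap T.R B r) = (algebraMap T.R T'.R r) ⊗ₜ[T.R] (1 : B)
    rw [Algebra.algebraMap_eq_smul_one, Algebra.algebraMap_eq_smul_one, TensorProduct.smul_tmul]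
  have w : (SM β ≫ u) ≫ p = SM (algebraMap T'.R (T'.R ⊗[T.R] B)) ≫ SM φ.ρ := by
    rw [Category.assoc, hu, hβ.w]
  let u' := D.hX.lift (SM β ≫ u) (SM (algebraMap T'.R (T'.R ⊗[T.R] B))) w
  have h1 : u' ≫ D.g = SM β ≫ u := D.hX.lift_fst _ _ _
  have h2 : u' ≫ D.f' = SM (algebraMap T'.R (T'.R ⊗[T.R] B)) := D.hX.lift_snd _ _ _
  have hsq : IsPullback (SM β) u' u D.g := by
    refine IsPullback.of_bot ?_ h1.symm D.hX
    rw [hu, h2]
    exact hβ
  have hop : IsOpenImmersion u' :=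
    MorphismProperty.of_isPullback (P := @IsOpenImmersion) hsq inferInstance
  refine ⟨T'.R ⊗[T.R] B, inferInstance, inferInstance, β, ?_, hβ, hβ', u', hop, h2, h1, ?_⟩
  · have := Algebra.TensorProduct.adjoin_one_tmul_image_eq_top (A := T'.R) (Set.range t) ht
    rw [← Set.range_comp] at this
    exact this
  · rintro x ⟨z, hz⟩
    obtain ⟨y, hy1, hy2⟩ := Scheme.Pullback.exists_preimage_pullback (f := u) (g := D.g) z x hz
    refine ⟨hsq.isoPullback.inv y, ?_⟩
    rw [← hy2, ← Scheme.Hom.comp_apply, IsPullback.isoPullback_inv_snd]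

end one

variable (Good : ∀ {T T' : TD.{u} n}, TMap T T' → Prop)
  (hG1 : ∀ {T T' : TD.{u} n} (φ : TMap T T'), Good φ → FieldCT φ)
  (hG2 : ∀ {T T' : TD.{u} n} (φ : TMap T T') (H : Hull T) (H' : Hull T'), Good φ →
    ∃ M : HullMap φ H H', Good M.φ')

include hG1 hG2 in
/-- The inductive step. -/
theorem step (N : ℕ)
    (ih : ∀ M : ℕ, M + 1 = N → ∀ {T T' : TD.{u} n} (φ : TMap T T'), Good φ → ∀ (A : Type u) [CommRing A]
      [Algebra T.R A] (s : Fin M → A), Algebra.adjoin T.R (Set.range s) = ⊤ →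
      CTall φ (SM (algebraMap T.R A)))
    {T T' : TD.{u} n} (φ : TMap T T') (hφ : Good φ) {P : Scheme.{u}}
    (p : P ⟶ Spec (CommRingCat.of T.R)) [IsProper p]
    (ι : Type) (B : ι → Type u) [∀ a, CommRing (B a)] [∀ a, Algebra T.R (B a)]
    (t : ∀ a, Fin N → B a) (ht : ∀ a, Algebra.adjoin T.R (Set.range (t a)) = ⊤)
    (u : ∀ a, Spec (CommRingCat.of (B a)) ⟶ P) [∀ a, IsOpenImmersion (u a)]
    (hu : ∀ a, u a ≫ p = SM (algebraMap T.R (B a))) (hcov : ∀ x : P, ∃ a, x ∈ Set.range (u a)) :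
    CTall φ p := by
  intro D K hK
  have hi := isClosedImmersion_i D
  have hprop : IsProper D.f' :=
    MorphismProperty.of_isPullback (P := @IsProper) D.hX inferInstance
  have hprop' : IsProper D.fs :=
    MorphismProperty.of_isPullback (P := @IsProper) D.hs inferInstance
  choose B' i1 i2 β hβt hβ hβ' u' hop hu1 hu2 hu3 using fun a => exists_chart' D (B a) N (t a) (ht a) (u a) (hu a)
  have key : ∀ ab : ι × Fin N, ∃ (Z : Scheme.{u}) (g : Z ⟶ D.Xs'), IsIso ((pullD g).map (D.β K)) ∧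
      ∀ (y : D.Xs') (z : Spec (CommRingCat.of (B' ab.1))), D.i y = u' ab.1 z →
        z.asIdeal.comap (Polynomial.aeval (R := T'.R) (β ab.1 (t ab.1 ab.2))) =
          (IsLocalRing.maximalIdeal T'.R).map Polynomial.C → y ∈ Set.range g := by
    rintro ⟨a, b⟩
    obtain ⟨M, rfl⟩ : ∃ M, N = M + 1 := ⟨N - 1, by have := b.2; omega⟩
    obtain ⟨H⟩ := exists_hull T
    obtain ⟨H'⟩ := exists_hull T'
    obtain ⟨HM, hHM⟩ := hG2 φ H H' hφ
    obtain ⟨A₁, _, _, s, hs, γ, A₁', _, f₁', γ', g₁, hγ, hγ', hγ2, hγ2', hg₁, hpb, hpt⟩ :=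
      exists_chart_pair φ H H' HM M (B a) (B' a) (β a) (hβ a) (hβ' a) (t a) (ht a) b
    let D₁ : Dat HM.φ' (SM (algebraMap H.T'.R A₁)) :=
      mkDat HM.φ' (SM (algebraMap H.T'.R A₁)) g₁ (SM f₁') hpb
    have hh : LimEt (SM γ ≫ u a) := Sga4h.NcLimEt2.LimEt_comp _ _ hγ
    have hw : (SM γ ≫ u a) ≫ p = SM (algebraMap H.T'.R A₁) ≫ SM H.hom.ρ := by
      rw [Category.assoc, hu a, ← SM_comp, ← SM_comp, hγ2]
      rfl
    have hh' : LimEt (SM γ' ≫ u' a) := Sga4h.NcLimEt2.LimEt_comp _ _ hγ'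
    have hg : (SM γ' ≫ u' a) ≫ D.g = g₁ ≫ (SM γ ≫ u a) := by
      rw [Category.assoc, hu2 a, ← Category.assoc, ← hg₁, Category.assoc]
    have hw' : (SM γ' ≫ u' a) ≫ D.f' = SM f₁' ≫ SM H'.hom.ρ := by
      rw [Category.assoc, hu1 a, ← SM_comp, ← SM_comp, hγ2']
      rfl
    obtain ⟨hL, hs', -, -, hhs, hiff⟩ := chart_iff H.hom H'.hom HM.hlam.symm D D₁ (SM γ ≫ u a) hh hw
      (SM γ' ≫ u' a) hh' hg hw'
    refine ⟨D₁.Xs', hs', ?_, ?_⟩
    · rw [hiff K hK.ge]
      exact ih M rfl HM.φ' hHM A₁ s hs D₁ _ (hK.pullD hL)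
    · intro y z hyz hz
      obtain ⟨z', hz1, hz2⟩ := hpt z hz
      refine mem_range_hs D D₁ (SM γ' ≫ u' a) hs' hhs y z' ?_ hz2
      rw [Scheme.Hom.comp_apply, hz1, hyz]
  choose Z g hZ1 hZ2 using key
  refine proper_step D (hG1 φ hφ) K hK Z g (fun y hy => ?_) hZ1
  obtain ⟨a, ha⟩ := hcov (D.g (D.i y))
  obtain ⟨z, hz⟩ := hu3 a (D.i y) ha
  exact Sga4h.NcPoint.PT T'.R D.i D.fs D.f' D.hs.w N (B' a) (fun i => β a (t a i)) (hβt a) (u' a) (hu1 a)
    y z hz.symm (fun b hb => hy (a, b) (hZ2 (a, b) y z hz.symm hb))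

end K3.TraitInd
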