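import Groth.Agent.Sga4h.NcPsi

/-!
# Morphisms of root-closed traits (change of trait, S8623)

`TMap T T'`: `R → R'` local, `K → K'`, `L → L'`, WITHOUT `L' = R' ⊗ L` (compare `NcPsi.TDHom`).
`HullMap φ H H'`: the map of the hulls (strict localisations of the affine line at the generic point of
the special fibre). `SepIn φ`: `L` is separably closed in `L'`.
-/

set_option autoImplicit false

universe u

noncomputable section

namespace K3.TraitMap

open Groth.Agent.Sga4h.NcTD Groth.Agent.Sga4h.NcDefs Groth.Agent.Sga4h.NcPsi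

variable {n : ℕ}

/-- Morphisms of root-closed traits. -/
structure TMap (T T' : TD.{u} n) where
  /-- rings -/
  ρ : T.R →+* T'.R
  /-- fraction fields -/
  κ : T.K →+* T'.K
  /-- extensions -/
  lam : T.L →+* T'.L
  h0 : IsLocalHom ρ
  h1 : κ.comp (algebraMap T.R T.K) = (algebraMap T'.R T'.K).comp ρ
  h2 : lam.comp (algebraMap T.K T.L) = (algebraMap T'.K T'.L).comp κ

/-- The underlying map of a `TDHom`. -/
def ofTDHom {T T' : TD.{u} n} (φ : TDHom T T') : TMap T T' := ⟨φ.ρ, φ.κ, φ.lam, φ.h0, φ.h1, φ.h2⟩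

/-- `L` is separably closed in `L'`. -/
def SepIn {T T' : TD.{u} n} (φ : TMap T T') : Prop :=
  letI := φ.lam.toAlgebra
  ∀ x : T'.L, IsSeparable T.L x → x ∈ Set.range φ.lam

/-- A map of hulls over `φ`. -/
structure HullMap {T T' : TD.{u} n} (φ : TMap T T') (H : Hull T) (H' : Hull T') where
  /-- the map -/
  φ' : TMap H.T' H'.T'
  hρ : φ'.ρ.comp H.ρ = H'.ρ.comp (Polynomial.mapRingHom φ.ρ)
  hlam : φ'.lam.comp H.lam = H'.lam.comp φ.lam

end K3.TraitMap
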